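import Cfsg.Agent.Lib.NoStrictAtoms69.Spanned
import Cfsg.Agent.Lib.CharP.Basic

/-!
# An offender gives a moved fixed point of the Sylow subgroup

`H` acts faithfully on `W`, `O_p(H) = 1`, a Sylow subgroup `T` lies in a unique maximal subgroup and
some nontrivial abelian `p`-subgroup is an offender.  Then some vector fixed by `T` is moved.
-/

set_option autoImplicit false
set_option linter.unusedSectionVars false

namespace Cfsg.Agent.Lib.NoStrictAtoms69

open Cfsg.Agent.Lib.RankOneFF (fixW mem_fixW cjS mem_cjS conj_mem_cjS card_cjS mem_fixW_cjS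
  card_fixW_cjS)
open Cfsg.Agent.Lib.NoStrict (PMin OnlyIn cjS_cjS)

universe u v

variable {H : Type u} [Group H] {W : Type v} [AddCommGroup W] [DistribMulAction H W]

variable (W) in
/-- The action on the quotient by the fixed points of a normal subgroup. -/
def coHom (N : Subgroup H) [N.Normal] : H →* AddMonoid.End (W ⧸ fixW W N) where
  toFun g := QuotientAddGroup.map (fixW W N) (fixW W N) (DistribSMul.toAddMonoidHom W g)
    fun _ hw => NoStrict.smul_mem_fixW N g hw
  map_one' := AddMonoidHom.ext fun x => by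
    induction x using QuotientAddGroup.induction_on with
    | _ w => exact congrArg QuotientAddGroup.mk (one_smul H w)
  map_mul' g k := AddMonoidHom.ext fun x => by
    induction x using QuotientAddGroup.induction_on with
    | _ w => exact congrArg QuotientAddGroup.mk (mul_smul g k w)

variable (W) in
/-- `H` on the quotient by the fixed points of `N`. -/
@[reducible] def coAct (N : Subgroup H) [N.Normal] : DistribMulAction H (W ⧸ fixW W N) :=
  DistribMulAction.compHom _ (coHom W N)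

attribute [local instance] coAct

theorem smul_mk (N : Subgroup H) [N.Normal] (g : H) (w : W) :
    g • (QuotientAddGroup.mk w : W ⧸ fixW W N) = QuotientAddGroup.mk (g • w) := rfl

variable [Finite H] [Finite W] {p : ℕ} [Fact p.Prime]

/-- A `p`-group has a nonzero fixed vector in a nonzero invariant subgroup. -/
theorem exists_fixed {T : Subgroup H} (hT : IsPGroup p T) (D : AddSubgroup W)
    (hD : ∀ t ∈ T, ∀ d ∈ D, t • d ∈ D) (hne : D ≠ ⊥) (hpW : ∀ w : W, p • w = 0) :
    ∃ d ∈ D, d ≠ 0 ∧ ∀ t ∈ T, t • d = d := by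
  let : MulAction T D :=
    { smul := fun t d => ⟨(t : H) • (d : W), hD t t.2 d d.2⟩
      one_smul := fun d => Subtype.ext (one_smul H (d : W))
      mul_smul := fun s t d => Subtype.ext (mul_smul (s : H) (t : H) (d : W)) }
  obtain ⟨⟨d, hd⟩, hd0⟩ : ∃ d : D, d ≠ 0 := by
    by_contra hall
    push Not at hall
    exact hne ((AddSubgroup.eq_bot_iff_forall D).2 fun x hx =>
      congrArg Subtype.val (hall ⟨x, hx⟩))
  have hdvd : p ∣ Nat.card D := by
    have h1 : addOrderOf (⟨d, hd⟩ : D) = p :=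
      addOrderOf_eq_prime (Subtype.ext ((AddSubgroupClass.coe_nsmul _ p).trans (hpW d))) hd0
    exact h1 ▸ addOrderOf_dvd_natCard _
  obtain ⟨e, he, he0⟩ := hT.exists_fixed_point_of_prime_dvd_card_of_fixed_point (α := D) hdvd
    (a := 0) (fun t => Subtype.ext (smul_zero (t : H)))
  exact ⟨(e : W), e.2, fun h => he0 (Subtype.ext h.symm), fun t ht =>
    congrArg Subtype.val (he ⟨t, ht⟩)⟩

theorem eq_top_of_pResidual_eq_bot (h : Cfsg.pResidual p H = ⊥) : IsPGroup p H := by
  intro g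
  obtain ⟨k, hk⟩ := (CharP.isPGroup_quotient_pResidual (p := p) (G := H)) (QuotientGroup.mk g)
  refine ⟨k, ?_⟩
  rw [← QuotientGroup.mk_pow, QuotientGroup.eq_one_iff, h, Subgroup.mem_bot] at hk
  exact hk

variable [FaithfulSMul H W]

/-- The main theorem. -/
theorem exists_moved_fixed (hpW : ∀ w : W, p • w = 0) (hO : Cfsg.pCore p H = ⊥) (T : Sylow p H)
    {M : Subgroup H} (hM : M ≠ ⊤) (hTM : (T : Subgroup H) ≤ M)
    (honly : OnlyIn (T : Subgroup H) M) {A : Subgroup H} (hA : Ex p W A) (hAne : A ≠ ⊥) :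
    ∃ w ∈ fixW W (T : Subgroup H), ∃ h : H, h • w ≠ w := by
  set K := Cfsg.pResidual p H with hKdef
  set V₁ := fixW W K with hV₁
  set π : W →+ W ⧸ fixW W K := QuotientAddGroup.mk' (fixW W K) with hπ
  have hK : K ≠ ⊥ := fun e => hAne (le_bot_iff.1 (le_of_le_of_eq le_top (by
    rw [← hO, (Cores.pCore_eq_top_iff (G := H) (p := p)).2 (eq_top_of_pResidual_eq_bot e)])))
  have hfix0 : ∀ u : W ⧸ fixW W K, (∀ k ∈ K, k • u = u) → u = 0 := by
    intro u hu
    induction u using QuotientAddGroup.induction_on with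
    | _ x =>
    rw [QuotientAddGroup.eq_zero_iff]
    intro k hk
    refine (show K ≤ MulAction.stabilizer H x from (Subgroup.closure_le _).2 fun g hg => ?_) hk
    have hgK : g ∈ K := CharP.mem_pResidual hg
    have h1 : g • x - x ∈ fixW W K := (QuotientAddGroup.eq_iff_sub_mem).1 (hu g hgK)
    have h2 : ∀ n : ℕ, (g ^ n) • x = x + n • (g • x - x) := by
      intro n
      induction n with
      | zero => simp
      | succ n ih =>
        rw [pow_succ', mul_smul, ih, smul_add, smul_comm g n, h1 g hgK, succ_nsmul]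
        abel
    have h3 := h2 (orderOf g)
    rw [pow_orderOf_eq_one, one_smul, left_eq_add] at h3
    have h4 : addOrderOf (g • x - x) ∣ Nat.gcd (orderOf g) p :=
      Nat.dvd_gcd (addOrderOf_dvd_of_nsmul_eq_zero h3) (addOrderOf_dvd_of_nsmul_eq_zero (hpW _))
    rw [(show Nat.Coprime (orderOf g) p from hg).gcd_eq_one, Nat.dvd_one,
      AddMonoid.addOrderOf_eq_one_iff, sub_eq_zero] at h4
    exact h4
  have hV₁top : fixW W K ≠ ⊤ := by
    intro e
    refine hK ((Subgroup.eq_bot_iff_forall K).2 fun k hk => ?_)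
    refine FaithfulSMul.eq_of_smul_eq_smul (α := W) fun w => ?_
    rw [one_smul]
    exact (e ▸ AddSubgroup.mem_top w : w ∈ fixW W K) k hk
  have hpU : ∀ u : W ⧸ fixW W K, p • u = 0 := fun u => by
    induction u using QuotientAddGroup.induction_on with
    | _ x => rw [← QuotientAddGroup.mk_nsmul, hpW, QuotientAddGroup.mk_zero]
  have hUne : (⊤ : AddSubgroup (W ⧸ fixW W K)) ≠ ⊥ := by
    intro e
    refine hV₁top (eq_top_iff.2 fun w _ => ?_)
    have : (QuotientAddGroup.mk w : W ⧸ fixW W K) ∈ (⊥ : AddSubgroup (W ⧸ fixW W K)) :=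
      e ▸ AddSubgroup.mem_top _
    rwa [AddSubgroup.mem_bot, QuotientAddGroup.eq_zero_iff] at this
  have hP : PMin p (W ⧸ fixW W K) T M := by
    obtain ⟨u, -, hu0, hu⟩ := exists_fixed T.2 ⊤ (fun _ _ _ _ => AddSubgroup.mem_top _) hUne hpU
    refine ⟨hM, hTM, honly, u, fun t ht => hu t ht, ?_⟩
    by_contra hall
    push Not at hall
    exact hu0 (hfix0 u fun k _ => hall k)
  have hns := PMin.ns hP hO
  have hsep := allSep hP hO hpU
  have hcardW : Nat.card W = Nat.card (W ⧸ fixW W K) * Nat.card (fixW W K) :=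
    AddSubgroup.card_eq_card_quotient_mul_card_addSubgroup _
  have hsub : ∀ B : Subgroup H, (fixW W B).map π ≤ fixW (W ⧸ fixW W K) B := by
    rintro B _ ⟨w, hw, rfl⟩ b hb
    exact congrArg QuotientAddGroup.mk (hw b hb)
  have hdec : ∀ B : Subgroup H, Nat.card (fixW W B) =
      Nat.card ((fixW W B).map π) * Nat.card ↥(fixW W B ⊓ fixW W K) := by
    intro B
    have h3 := AddSubgroup.card_eq_card_quotient_mul_card_addSubgroup
      (π.comp (fixW W B).subtype).ker
    rw [Nat.card_congr (QuotientAddGroup.quotientKerEquivRange _).toEquiv,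
      AddMonoidHom.range_comp, AddSubgroup.range_subtype] at h3
    rw [h3]
    congr 1
    exact Nat.card_congr
      { toFun := fun c => ⟨((c : fixW W B) : W), (c : fixW W B).2,
          (QuotientAddGroup.eq_zero_iff _).1 c.2⟩
        invFun := fun c => ⟨⟨(c : W), c.2.1⟩, (QuotientAddGroup.eq_zero_iff _).2 c.2.2⟩
        left_inv := fun _ => rfl
        right_inv := fun _ => rfl }
  have hbound : ∀ B : Subgroup H, IsPGroup p B → Comm B B →
      Nat.card B * Nat.card (fixW W B) ≤ Nat.card W ∧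
      (Nat.card W ≤ Nat.card B * Nat.card (fixW W B) →
        Ex p (W ⧸ fixW W K) B ∧ fixW W K ≤ fixW W B ∧
          fixW (W ⧸ fixW W K) B = (fixW W B).map π) := by
    intro B hBp hBc
    have h1 := hns B hBp hBc
    have h2 : Nat.card B * Nat.card ((fixW W B).map π) ≤
        Nat.card B * Nat.card (fixW (W ⧸ fixW W K) B) :=
      Nat.mul_le_mul_left _ (AddSubgroup.card_le_of_le (hsub B))
    have h3 : Nat.card ↥(fixW W B ⊓ fixW W K) ≤ Nat.card (fixW W K) :=
      AddSubgroup.card_le_of_le inf_le_right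
    rw [hdec B, hcardW, ← mul_assoc]
    refine ⟨Nat.mul_le_mul (h2.trans h1) h3, fun h4 => ?_⟩
    have e1 : Nat.card (W ⧸ fixW W K) ≤ Nat.card B * Nat.card ((fixW W B).map π) :=
      Nat.le_of_mul_le_mul_right (h4.trans (Nat.mul_le_mul_left _ h3)) Nat.card_pos
    have e2 : Nat.card (fixW W K) ≤ Nat.card ↥(fixW W B ⊓ fixW W K) :=
      Nat.le_of_mul_le_mul_left (h4.trans (Nat.mul_le_mul_right _ (h2.trans h1))) Nat.card_pos
    refine ⟨⟨hBp, hBc, e1.trans h2⟩, ?_, (eq_of_le_of_card_le (hsub B) ?_).symm⟩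
    · have := eq_of_le_of_card_le (inf_le_right : fixW W B ⊓ fixW W K ≤ fixW W K) e2
      exact inf_eq_right.1 this
    · exact Nat.le_of_mul_le_mul_left (h1.trans e1) Nat.card_pos
  have hnsW : NS (H := H) p W := fun B hBp hBc => (hbound B hBp hBc).1
  have hexU : ∀ B : Subgroup H, Ex p W B →
      Ex p (W ⧸ fixW W K) B ∧ fixW W K ≤ fixW W B ∧
        fixW (W ⧸ fixW W K) B = (fixW W B).map π := fun B hB => (hbound B hB.pgroup hB.comm).2 hB.le
  obtain ⟨S, hS⟩ := hA.pgroup.exists_le_sylow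
  obtain ⟨g, hg⟩ := MulAction.exists_smul_eq H T S
  have hAT : cjS g⁻¹ A ≤ (T : Subgroup H) := by
    intro y hy
    rw [mem_cjS, inv_inv] at hy
    have h1 : g * y * g⁻¹ ∈ (S : Subgroup H) := hS hy
    rw [← hg] at h1
    have h2 : g * y * g⁻¹ ∈ cjS g (T : Subgroup H) := h1
    rw [mem_cjS] at h2
    rwa [show g⁻¹ * (g * y * g⁻¹) * g = y by group] at h2
  obtain ⟨A₀, hA₀le, hA₀⟩ := (hA.conj g⁻¹).exists_atom (fun e =>
    hAne ((Subgroup.map_eq_bot_iff_of_injective A (MulAut.conj g⁻¹).injective).1 e))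
  obtain ⟨hA₀U, -, hA₀f⟩ := hexU A₀ hA₀.toEx
  have hA₀q : Quad (W ⧸ fixW W K) A₀ := by
    intro a ha u
    induction u using QuotientAddGroup.induction_on with
    | _ w =>
    rw [hA₀f]
    exact ⟨a • w - w, hA₀.quad hnsW hpW a ha w, rfl⟩
  obtain ⟨A₁, hA₁⟩ := exists_good hP hO hpU hA₀U hA₀q hA₀.ne
  have hV₁A : fixW W K ≤ fixW W A₁ := (hexU A₀ hA₀.toEx).2.1.trans (fixW_anti hA₁.le)
  have hA₁f : fixW (W ⧸ fixW W K) A₁ ≤ (fixW W A₁).map π := by
    refine hA₁.spanned.trans ((AddSubgroup.closure_le _).2 ?_)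
    rintro _ ⟨x, -, hxA, c, hc, rfl⟩
    rw [hA₀f] at hc
    obtain ⟨w, hw, rfl⟩ := hc
    refine ⟨x • w, ?_, rfl⟩
    rw [SetLike.mem_coe, ← hxA, mem_fixW_cjS, inv_smul_smul]
    exact fixW_anti hA₁.le hw
  have hA₁W : Ex p W A₁ := by
    refine ⟨hA₁.atom.pgroup, hA₁.atom.comm, ?_⟩
    rw [hdec A₁, inf_eq_right.2 hV₁A, hcardW, ← mul_assoc]
    exact Nat.mul_le_mul_right _ (hA₁.atom.le.trans
      (Nat.mul_le_mul_left _ (AddSubgroup.card_le_of_le hA₁f)))
  -- the translates under `T`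
  set O : Set (Subgroup H) := (fun t => cjS t A₁) '' ((T : Subgroup H) : Set H) with hO'
  have hleT : ∀ t ∈ (T : Subgroup H), cjS t A₁ ≤ (T : Subgroup H) := by
    rintro t ht _ ⟨a, ha, rfl⟩
    exact mul_mem (mul_mem ht (hAT (hA₀le (hA₁.le ha)))) (inv_mem ht)
  have hF : Fam p (W ⧸ fixW W K) O := by
    refine ⟨?_, ?_⟩
    · rintro _ ⟨t, -, rfl⟩; exact hA₁.atom.conj t
    · rintro _ ⟨s, hs, rfl⟩ _ ⟨t, ht, rfl⟩
      exact comm_atoms hns hpU hsep T.2 (hA₁.atom.conj s) (hleT s hs) (hA₁.atom.conj t) (hleT t ht)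
  set J := sSup O with hJ
  have hJT : J ≤ (T : Subgroup H) := sSup_le (by rintro _ ⟨t, ht, rfl⟩; exact hleT t ht)
  have hTJ : (T : Subgroup H) ≤ Subgroup.normalizer (J : Set H) := by
    intro t ht
    refine Subgroup.mem_normalizer_iff_map_conj_eq.2
      (Subgroup.eq_of_le_of_card_ge ?_ (card_cjS t J).ge)
    refine Subgroup.map_le_iff_le_comap.2 (sSup_le ?_)
    rintro _ ⟨s, hs, rfl⟩
    refine Subgroup.map_le_iff_le_comap.1 ?_
    exact le_sSup (s := O) ⟨t * s, mul_mem ht hs, (cjS_cjS t s A₁).symm⟩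
  have : (J.subgroupOf (T : Subgroup H)).Normal :=
    Subgroup.normal_subgroupOf_of_le_normalizer hTJ
  have hJne : J.subgroupOf (T : Subgroup H) ≠ ⊥ := by
    rw [Ne, Subgroup.subgroupOf_eq_bot, disjoint_iff, inf_eq_left.2 hJT]
    intro e
    have h1 : cjS (1 : H) A₁ ≤ J := le_sSup (s := O) ⟨1, (T : Subgroup H).one_mem, rfl⟩
    rw [e, le_bot_iff] at h1
    exact (hA₁.atom.conj 1).ne h1
  obtain ⟨⟨b, hb⟩, hb1⟩ := Subgroup.ne_bot_iff_exists_ne_one.1
    (PGroups.normal_inf_center_ne_bot T.2 _ hJne)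
  have hbc : ∀ t ∈ (T : Subgroup H), t * (b : H) = (b : H) * t := fun t ht =>
    congrArg Subtype.val (Subgroup.mem_center_iff.1 hb.2 ⟨t, ht⟩)
  obtain ⟨𝒮, h𝒮, hb𝒮, hfix⟩ := exists_support hsep hF (Subgroup.mem_subgroupOf.1 hb.1)
  have hR : Ex p W (sSup 𝒮) := ex_sSup hnsW (fun B hB => by
      obtain ⟨t, -, rfl⟩ := h𝒮 hB
      exact hA₁W.conj t) fun B hB C hC => hF.2 B (h𝒮 hB) C (h𝒮 hC)
  obtain ⟨-, hRV, hRf⟩ := hexU _ hR
  -- `[W, b]` avoids the fixed points of `K`
  have hzero : ∀ w : W, (b : H) • w - w ∈ fixW W K → (b : H) • w = w := by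
    intro w hw
    have h1 : (QuotientAddGroup.mk w : W ⧸ fixW W K) ∈ fixW (W ⧸ fixW W K) (sSup 𝒮) :=
      hfix _ (QuotientAddGroup.eq_iff_sub_mem.2 hw)
    rw [hRf] at h1
    obtain ⟨c, hc, hce⟩ := h1
    have h2 : c - w ∈ fixW W K := QuotientAddGroup.eq_iff_sub_mem.1 hce
    have h3 := hRV h2 (b : H) hb𝒮
    rw [smul_sub, hc (b : H) hb𝒮, sub_right_inj] at h3
    exact h3
  set D : AddSubgroup W :=
    (DistribSMul.toAddMonoidHom W (b : H) - AddMonoidHom.id W).range with hDdef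
  have hmemD : ∀ d, d ∈ D ↔ ∃ w : W, (b : H) • w - w = d := fun d => Iff.rfl
  have hDne : D ≠ ⊥ := by
    intro e
    refine hb1 (Subtype.ext (Subtype.ext (FaithfulSMul.eq_of_smul_eq_smul (α := W) fun w => ?_)))
    change (b : H) • w = (1 : H) • w
    have : (b : H) • w - w ∈ (⊥ : AddSubgroup W) := e ▸ (hmemD _).2 ⟨w, rfl⟩
    rw [one_smul]
    exact sub_eq_zero.1 this
  obtain ⟨d, hd, hd0, hdT⟩ := exists_fixed T.2 D (fun t ht d hd => by
    obtain ⟨w, rfl⟩ := (hmemD d).1 hd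
    refine (hmemD _).2 ⟨t • w, ?_⟩
    rw [smul_sub, ← mul_smul, ← hbc t ht, mul_smul]) hDne hpW
  refine ⟨d, fun t ht => hdT t ht, ?_⟩
  by_contra hall
  push Not at hall
  obtain ⟨w, rfl⟩ := (hmemD d).1 hd
  exact hd0 (by rw [hzero w fun k _ => hall k, sub_self])

end Cfsg.Agent.Lib.NoStrictAtoms69
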