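import Cfsg.Agent.Lib.NoStrictAtoms69.Sep
import Cfsg.Agent.Lib.PGroups.Omega

/-!
# Atoms in a `p`-group commute

An exact quadratic subgroup of a `p`-group permuting pairwise commuting atoms fixes each of them:
otherwise it could be replaced by a stabiliser times a sum of translates and would be a strict
offender.  Hence all atoms inside one `p`-group commute.
-/

set_option autoImplicit false
set_option linter.unusedSectionVars false

namespace Cfsg.Agent.Lib.NoStrictAtoms69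

open Cfsg.Agent.Lib.RankOneFF (fixW mem_fixW cjS mem_cjS conj_mem_cjS card_cjS mem_fixW_cjS
  card_fixW_cjS)
open Cfsg.Agent.Lib.NoStrict (cjS_cjS)

variable {H : Type*} [Group H] [Finite H] {W : Type*} [AddCommGroup W] [DistribMulAction H W]
  [Finite W] {p : ℕ} [Fact p.Prime]

/-- Commutator spaces of two commuting atoms meet trivially. -/
theorem eq_of_disp_eq (hsep : AllSep H p W) {A B : Subgroup H} (hA : Atom p W A)
    (hB : Atom p W B) (h : Comm A B) (hne : A ≠ B) {a b : H} (ha : a ∈ A) (hb : b ∈ B) {u v : W}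
    (he : a • u - u = b • v - v) : a • u = u := by
  obtain ⟨C, g, hs⟩ := hsep {A, B} ⟨A, Set.mem_insert _ _⟩ (fam_pair hA hB h)
  rcases hs.amem with e | e
  · subst e
    have h1 := hs.fix B (Set.mem_insert_of_mem _ rfl) hne.symm b hb v
    rw [← he] at h1
    rcases hs.reg a ha u h1 with e | e
    · rw [e, one_smul]
    · exact e a ha
  · rw [Set.mem_singleton_iff] at e
    subst e
    have h1 := hs.fix A (Set.mem_insert _ _) hne a ha u
    rw [he] at h1
    rcases hs.reg b hb v h1 with e | e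
    · rw [e, one_smul, sub_self] at he
      exact sub_eq_zero.1 he
    · rw [e b hb, sub_self] at he
      exact sub_eq_zero.1 he

/-- A member meets the join of the others trivially. -/
theorem fam_inf (hns : NS (H := H) p W) (hsep : AllSep H p W) {𝒟 : Set (Subgroup H)}
    (hF : Fam p W 𝒟) {A : Subgroup H} (hA : A ∈ 𝒟) : A ⊓ sSup (𝒟 \ {A}) = ⊥ := by
  refine (Subgroup.eq_bot_iff_forall _).2 fun a ha => NS.eq_one_of_fix hns (hF.1 A hA).pgroup ha.1 ?_
  intro w
  exact fam_fix hsep hF hA ha.1 ((sSup (𝒟 \ {A})).inv_mem ha.2) (by rw [mul_inv_cancel, one_smul])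

variable (hns : NS (H := H) p W) (hpW : ∀ w : W, p • w = 0) (hsep : AllSep H p W)
include hns hpW hsep

/-- An exact quadratic subgroup permuting commuting atoms normalises them. -/
theorem le_normalizer_of_orbit {G R B : Subgroup H} (hG : IsPGroup p G) (hR : Ex p W R)
    (hq : Quad W R) (hRG : R ≤ G) (hB : Atom p W B) (hBG : B ≤ G)
    (hcomm : ∀ r ∈ R, ∀ s ∈ R, Comm (cjS r B) (cjS s B)) :
    R ≤ Subgroup.normalizer (B : Set H) := by
  by_contra hnot
  obtain ⟨r₀, hr₀, hr₀N⟩ := SetLike.not_le_iff_exists.1 hnot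
  set R₁ := R ⊓ Subgroup.normalizer (B : Set H) with hR₁
  set O : Set (Subgroup H) := (fun r => cjS r B) '' (R : Set H) with hO
  have hF : Fam p W O := by
    refine ⟨?_, ?_⟩
    · rintro _ ⟨r, -, rfl⟩; exact hB.conj r
    · rintro _ ⟨r, hr, rfl⟩ _ ⟨s, hs, rfl⟩; exact hcomm r hr s hs
  have hB1 : cjS (1 : H) B = B := by ext y; simp
  have hBO : B ∈ O := ⟨1, R.one_mem, hB1⟩
  -- an element of `B` centralised by `R₁`
  obtain ⟨b₀, hb₀, hb₀1, hb₀c⟩ : ∃ b ∈ B, b ≠ 1 ∧ ∀ r ∈ R₁, r * b = b * r := by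
    have hS : IsPGroup p ↥(R₁ ⊔ B) := hG.to_le (sup_le (inf_le_left.trans hRG) hBG)
    have : (B.subgroupOf (R₁ ⊔ B)).Normal :=
      Subgroup.normal_subgroupOf_of_le_normalizer (sup_le inf_le_right Subgroup.le_normalizer)
    have hne : B.subgroupOf (R₁ ⊔ B) ≠ ⊥ := by
      rw [Ne, Subgroup.subgroupOf_eq_bot, disjoint_iff, inf_eq_left.2 le_sup_right]
      exact hB.ne
    obtain ⟨⟨x, hx⟩, hx1⟩ := Subgroup.ne_bot_iff_exists_ne_one.1
      (PGroups.normal_inf_center_ne_bot hS _ hne)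
    refine ⟨(x : H), Subgroup.mem_subgroupOf.1 hx.1, fun e => hx1 (Subtype.ext (Subtype.ext e)), ?_⟩
    intro r hr
    exact congrArg Subtype.val (Subgroup.mem_center_iff.1 hx.2 ⟨r, Subgroup.mem_sup_left hr⟩)
  set F : Subgroup H := Subgroup.closure ((fun r => r * b₀ * r⁻¹) '' (R : Set H)) with hFdef
  have hFO : F ≤ sSup O := (Subgroup.closure_le _).2 (by
    rintro _ ⟨r, hr, rfl⟩
    exact le_sSup (show cjS r B ∈ O from ⟨r, hr, rfl⟩) (conj_mem_cjS hb₀))
  have hOc : Comm (sSup O) (sSup O) :=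
    comm_sSup fun C hC => (comm_sSup fun D hD => hF.2 C hC D hD).symm
  have hR₁F : Comm R₁ F := by
    intro r hr f hf
    have : F ≤ Subgroup.centralizer ({r} : Set H) := (Subgroup.closure_le _).2 (by
      rintro _ ⟨s, hs, rfl⟩
      refine Subgroup.mem_centralizer_iff.2 fun y hy => ?_
      obtain rfl : y = r := hy
      have h1 := hR.comm y hr.1 s hs
      have h2 := hR.comm y hr.1 s⁻¹ (R.inv_mem hs)
      calc y * (s * b₀ * s⁻¹) = y * s * b₀ * s⁻¹ := by group
        _ = s * (y * b₀) * s⁻¹ := by rw [h1]; group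
        _ = s * b₀ * (y * s⁻¹) := by rw [hb₀c y hr]; group
        _ = _ := by rw [h2]; group)
    exact Subgroup.mem_centralizer_iff.1 (this hf) r rfl
  have hcross : ∀ r ∈ R, cjS r₀ (cjS r B) ≠ cjS r B := by
    intro r hr e
    refine hr₀N (Subgroup.mem_normalizer_iff_map_conj_eq.2 ?_)
    have := congrArg (cjS r⁻¹) e
    rw [cjS_cjS, cjS_cjS, cjS_cjS, inv_mul_cancel, hB1, mul_assoc, hR.comm r₀ hr₀ r hr, ← mul_assoc,
      inv_mul_cancel, one_mul] at this
    exact this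
  have hRF : R ⊓ F = ⊥ := by
    refine (Subgroup.eq_bot_iff_forall _).2 fun x hx => ?_
    obtain ⟨𝒮, hS, hxS, hfix⟩ := exists_support hsep hF (hFO hx.2)
    rcases 𝒮.eq_empty_or_nonempty with rfl | ⟨A, hA⟩
    · simpa using hxS
    exfalso
    obtain ⟨r, hr, rfl⟩ := hS hA
    set A := cjS r B with hAdef
    have hAO : A ∈ O := ⟨r, hr, rfl⟩
    have hc : Comm A (sSup (O \ {A})) := comm_sSup fun C hC => hF.2 A hAO C hC.1
    obtain ⟨-, -, htop⟩ := (hF.1 A hAO).toEx.lattice hns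
      (ex_sSup hns (fun C hC => (hF.1 C hC.1).toEx) fun C hC D hD => hF.2 C hC.1 D hD.1) hc
    rw [fam_inf hns hsep hF hAO] at htop
    have h0 := hFO hx.2
    rw [show O = insert A (O \ {A}) by rw [Set.insert_sdiff_singleton, Set.insert_eq_of_mem hAO],
      sSup_insert, ← SetLike.mem_coe,
      Subgroup.coe_mul_of_left_le_normalizer_right _ _ hc.le_normalizer] at h0
    obtain ⟨a, ha, rest, hrest, hax⟩ := h0
    have hle : fixW W (sSup (O \ {A})) ≤ fixW W A := by
      intro w hw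
      have hxw : x • w = a • w := by rw [← hax, mul_smul, hw rest hrest]
      have hq' := hq x hx.1 w r₀ hr₀
      rw [hxw] at hq'
      have hne : A ≠ cjS r₀ A := fun e => hcross r hr e.symm
      have hc2 : Comm A (cjS r₀ A) := by
        rw [hAdef, cjS_cjS]
        exact hcomm r hr (r₀ * r) (R.mul_mem hr₀ hr)
      have haw : a • w = w := eq_of_disp_eq hsep (hF.1 A hAO) ((hF.1 A hAO).conj r₀) hc2 hne ha
        (conj_mem_cjS (g := r₀) ha) (v := r₀ • w)
        (by rw [mul_smul, mul_smul, inv_smul_smul, ← smul_sub, hq'])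
      exact fixW_anti (le_sSup hA) (hfix w (by rw [hxw, haw]))
    refine (hF.1 A hAO).ne (eq_bot_of_fixW_top hns (hF.1 A hAO).pgroup fun w => ?_)
    have h2 : fixW W A ⊔ fixW W (sSup (O \ {A})) = ⊤ := by
      rw [htop]
      exact eq_top_iff.2 fun w _ b hb => by rw [Subgroup.mem_bot.1 hb, one_smul]
    rw [sup_eq_left.2 hle] at h2
    exact h2 ▸ AddSubgroup.mem_top w
  -- more elements
  have hcardF : (R₁.subgroupOf R).index + 1 ≤ Nat.card F := by
    classical
    have hmem : ∀ q : R ⧸ R₁.subgroupOf R, (q.out : H) * b₀ * (q.out : H)⁻¹ ∈ F := fun q =>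
      Subgroup.subset_closure ⟨(q.out : H), q.out.2, rfl⟩
    let f : Option (R ⧸ R₁.subgroupOf R) → F := fun o =>
      o.elim 1 fun q => ⟨_, hmem q⟩
    have hne1 : ∀ r : H, r * b₀ * r⁻¹ ≠ 1 := fun r e => hb₀1 (by
      rw [conj_eq_one_iff] at e; exact e)
    have hf : Function.Injective f := by
      rintro (_ | q) (_ | q') e
      · rfl
      · exact absurd (congrArg Subtype.val e).symm (hne1 _)
      · exact absurd (congrArg Subtype.val e) (hne1 _)
      · refine congrArg some ?_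
        have e' : (q.out : H) * b₀ * (q.out : H)⁻¹ = (q'.out : H) * b₀ * (q'.out : H)⁻¹ :=
          congrArg Subtype.val e
        have heq : cjS (q.out : H) B = cjS (q'.out : H) B := by
          by_contra hne'
          have := (hB.conj (q.out : H)).inf_eq_bot hns (hB.conj (q'.out : H))
            (hcomm _ q.out.2 _ q'.out.2) hne'
          exact hne1 _ (Subgroup.mem_bot.1 (this ▸ ⟨conj_mem_cjS hb₀, e' ▸ conj_mem_cjS hb₀⟩ :
            (q.out : H) * b₀ * (q.out : H)⁻¹ ∈ (⊥ : Subgroup H)))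
        have hN : (q.out : H)⁻¹ * (q'.out : H) ∈ R₁ := by
          refine ⟨R.mul_mem (R.inv_mem q.out.2) q'.out.2, ?_⟩
          refine Subgroup.mem_normalizer_iff_map_conj_eq.2 ?_
          have := congrArg (cjS (q.out : H)⁻¹) heq.symm
          rwa [cjS_cjS, cjS_cjS, inv_mul_cancel, hB1] at this
        rw [← Quotient.out_eq' q, ← Quotient.out_eq' q']
        exact QuotientGroup.eq.2 (Subgroup.mem_subgroupOf.2 hN)
    have := Nat.card_le_card_of_injective f hf
    rwa [Finite.card_option] at this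
  -- as many fixed points
  set δ : fixW W R →+ W := AddMonoidHom.mk' (fun c => b₀ • (c : W) - c) fun c d => by
    rw [AddSubgroup.coe_add, smul_add]; abel with hδ
  set D : AddSubgroup W := fixW W R ⊓ fixW W F with hD
  have hFfix : ∀ w : W, (∀ r ∈ R, (r * b₀ * r⁻¹) • w = w) → w ∈ fixW W F := by
    intro w hw f hf
    have : F ≤ MulAction.stabilizer H w := (Subgroup.closure_le _).2 (by
      rintro _ ⟨r, hr, rfl⟩; exact hw r hr)
    exact this hf
  have hker : Nat.card δ.ker ≤ Nat.card D := by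
    refine Nat.card_le_card_of_injective (fun c => ⟨((c : fixW W R) : W), (c : fixW W R).2, ?_⟩) ?_
    · refine hFfix _ fun r hr => ?_
      have h1 : b₀ • ((c : fixW W R) : W) = (c : fixW W R) := sub_eq_zero.1 c.2
      rw [mul_smul, mul_smul, (c : fixW W R).2 _ (R.inv_mem hr), h1, (c : fixW W R).2 _ hr]
    · intro c d e
      exact Subtype.ext (Subtype.ext (congrArg Subtype.val e : _))
  have hrange : δ.range ≤ fixW W (R₁ ⊔ F) := by
    rintro _ ⟨⟨c, hc⟩, rfl⟩
    rw [fixW_sup]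
    refine ⟨fun r hr => ?_, hFfix _ fun r hr => ?_⟩
    · show r • (b₀ • c - c) = b₀ • c - c
      rw [smul_sub, ← mul_smul, hb₀c r hr, mul_smul, hc r hr.1]
    · show (r * b₀ * r⁻¹) • (b₀ • c - c) = b₀ • c - c
      by_cases e : cjS r B = B
      · exact hB.quad hns hpW b₀ hb₀ c _ (e ▸ conj_mem_cjS hb₀)
      · exact (hB.conj r).comm_fix hns hB (by have := hcomm r hr 1 R.one_mem; rwa [hB1] at this) e hb₀ c _
          (conj_mem_cjS hb₀)
  have hdisj : δ.range ⊓ D = ⊥ := by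
    rw [eq_bot_iff]
    rintro _ ⟨⟨⟨c, hc⟩, rfl⟩, hz⟩
    change b₀ • c - c ∈ (⊥ : AddSubgroup W)
    have hz1 : r₀ • (b₀ • c - c) = b₀ • c - c := hz.1 r₀ hr₀
    have hne : B ≠ cjS r₀ B := fun e => hcross 1 R.one_mem (by rw [hB1]; exact e.symm)
    have := eq_of_disp_eq (u := c) hsep hB (hB.conj r₀)
      (by have := hcomm 1 R.one_mem r₀ hr₀; rwa [hB1] at this) hne hb₀
      (conj_mem_cjS (g := r₀) hb₀) (v := r₀ • c)
      (by rw [mul_smul, mul_smul, inv_smul_smul, ← smul_sub, hz1])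
    rw [this, sub_self]
    exact zero_mem _
  have hCle : Nat.card (fixW W R) ≤ Nat.card (fixW W (R₁ ⊔ F)) := by
    have h1 : δ.range ⊔ D ≤ fixW W (R₁ ⊔ F) := by
      refine sup_le hrange ?_
      rw [fixW_sup]
      exact inf_le_inf_right _ (fixW_anti inf_le_left)
    have h2 := card_sup_mul_inf δ.range D
    rw [hdisj, AddSubgroup.card_bot, mul_one] at h2
    have h3 := AddSubgroup.card_eq_card_quotient_mul_card_addSubgroup δ.ker
    rw [Nat.card_congr (QuotientAddGroup.quotientKerEquivRange δ).toEquiv] at h3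
    calc Nat.card (fixW W R) = Nat.card δ.range * Nat.card δ.ker := h3
      _ ≤ Nat.card δ.range * Nat.card D := Nat.mul_le_mul_left _ hker
      _ = Nat.card ↥(δ.range ⊔ D) := h2
      _ ≤ _ := AddSubgroup.card_le_of_le h1
  -- a strict offender
  have hFp : IsPGroup p F := hG.to_le ((Subgroup.closure_le _).2 (by
    rintro _ ⟨r, hr, rfl⟩
    exact G.mul_mem (G.mul_mem (hRG hr) (hBG hb₀)) (G.inv_mem (hRG hr))))
  have hFc : Comm F F := hOc.mono hFO hFO
  have hp : IsPGroup p ↥(R₁ ⊔ F) :=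
    pgroup_sup_of_comm (hR.pgroup.to_le inf_le_left) hFp hR₁F
  have hc : Comm (R₁ ⊔ F) (R₁ ⊔ F) :=
    Comm.sup ((Comm.sup (hR.comm.mono inf_le_left inf_le_left) hR₁F.symm).symm)
      ((Comm.sup hR₁F hFc).symm)
  have h1 := hns _ hp hc
  have h2 := OffenderComp.Aux.card_sup_inf hR₁F.le_normalizer
  rw [show R₁ ⊓ F = ⊥ from le_bot_iff.1 (hRF ▸ inf_le_inf_right F inf_le_left),
    Subgroup.card_bot, mul_one] at h2
  have h3 := Subgroup.card_mul_index (R₁.subgroupOf R)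
  rw [Nat.card_congr (Subgroup.subgroupOfEquivOfLe (inf_le_left : R₁ ≤ R)).toEquiv] at h3
  have hlt : Nat.card R < Nat.card ↥(R₁ ⊔ F) := by
    rw [h2, ← h3]
    exact Nat.mul_lt_mul_of_pos_left (by omega) Nat.card_pos
  have : Nat.card R * Nat.card (fixW W R) <
      Nat.card ↥(R₁ ⊔ F) * Nat.card (fixW W (R₁ ⊔ F)) :=
    Nat.mul_lt_mul_of_lt_of_le hlt hCle Nat.card_pos
  rw [hR.eq hns] at this
  omega

/-- Two atoms each permuting the family of the other commute. -/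
theorem comm_of_permute {G A B : Subgroup H} (hG : IsPGroup p G) (hA : Atom p W A) (hAG : A ≤ G)
    (hB : Atom p W B) (hBG : B ≤ G) (h1 : ∀ r ∈ B, ∀ s ∈ B, Comm (cjS r A) (cjS s A))
    (h2 : ∀ r ∈ A, ∀ s ∈ A, Comm (cjS r B) (cjS s B)) : Comm A B := by
  have hBA := le_normalizer_of_orbit hns hpW hsep hG hB.toEx (hB.quad hns hpW) hBG hA hAG h1
  have hAB := le_normalizer_of_orbit hns hpW hsep hG hA.toEx (hA.quad hns hpW) hAG hB hBG h2
  intro a ha b hb
  have hx : a * b * a⁻¹ * b⁻¹ ∈ A ⊓ B := by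
    refine ⟨?_, B.mul_mem ((Subgroup.mem_normalizer_iff.1 (hAB ha) b).1 hb) (B.inv_mem hb)⟩
    rw [show a * b * a⁻¹ * b⁻¹ = a * (b * a⁻¹ * b⁻¹) by group]
    exact A.mul_mem ha ((Subgroup.mem_normalizer_iff.1 (hBA hb) a⁻¹).1 (A.inv_mem ha))
  by_cases e : a * b * a⁻¹ * b⁻¹ = 1
  · rw [show a * b = (a * b * a⁻¹ * b⁻¹) * (b * a) by group, e, one_mul]
  have hAB' : fixW W A ≤ fixW W B := fun w hw =>
    fix_of_sep_single (hsep _ ⟨B, rfl⟩ (fam_single hB)) hx.2 e (hw _ hx.1)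
  have hBA' : fixW W B ≤ fixW W A := fun w hw =>
    fix_of_sep_single (hsep _ ⟨A, rfl⟩ (fam_single hA)) hx.1 e (hw _ hx.2)
  exact NS.commute_of_annihilate hns hG (hAG ha) (hBG hb)
    (fun w => hBA' (hB.quad hns hpW b hb w) a ha) (fun w => hAB' (hA.quad hns hpW a ha w) b hb)

omit hns hpW hsep [Finite W] [Fact p.Prime] in
/-- The stabiliser of a family under conjugation. -/
theorem image_cjS_mul (𝒟 : Set (Subgroup H)) (x y : H) :
    cjS (x * y) '' 𝒟 = cjS x '' (cjS y '' 𝒟) := by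
  rw [Set.image_image]
  simp only [cjS_cjS]

/-- A maximal family of commuting atoms of a `p`-group is invariant. -/
theorem exists_invariant {G A : Subgroup H} (hG : IsPGroup p G) (hA : Atom p W A) (hAG : A ≤ G) :
    ∃ 𝒟 : Set (Subgroup H), A ∈ 𝒟 ∧ Fam p W 𝒟 ∧ (∀ B ∈ 𝒟, B ≤ G) ∧
      ∀ t ∈ G, ∀ B ∈ 𝒟, cjS t B ∈ 𝒟 := by
  classical
  obtain ⟨𝒟, ⟨hA', hF, hle⟩, hmax⟩ := Set.exists_max_image
    {𝒟 : Set (Subgroup H) | A ∈ 𝒟 ∧ Fam p W 𝒟 ∧ ∀ B ∈ 𝒟, B ≤ G} (fun 𝒟 => 𝒟.ncard)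
    (Set.toFinite _) ⟨{A}, rfl, fam_single hA, by rintro B rfl; exact hAG⟩
  refine ⟨𝒟, hA', hF, hle, ?_⟩
  have hone : cjS (1 : H) '' 𝒟 = 𝒟 := by
    rw [show (cjS (1 : H) : Subgroup H → Subgroup H) = id from funext fun B => by ext y; simp,
      Set.image_id]
  let S : Subgroup H :=
    { carrier := {x | cjS x '' 𝒟 = 𝒟}
      one_mem' := hone
      mul_mem' := fun {x y} (hx : _ = _) (hy : _ = _) =>
        show _ = _ by rw [image_cjS_mul, hy, hx]
      inv_mem' := fun {x} (hx : _ = _) => show _ = _ by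
        conv_lhs => rw [← hx]
        rw [← image_cjS_mul, inv_mul_cancel, hone] }
  suffices hGS : G ≤ S by
    intro t ht B hB
    have h1 : cjS t '' 𝒟 = 𝒟 := hGS ht
    rw [← h1]
    exact ⟨B, hB, rfl⟩
  by_contra hnot
  have hmem : ∀ B ∈ 𝒟, B ≤ G ⊓ S := by
    refine fun B hB x hx => ⟨hle B hB hx, ?_⟩
    have : ∀ C ∈ 𝒟, cjS x C = C := by
      intro C hC
      exact Subgroup.mem_normalizer_iff_map_conj_eq.1 ((hF.2 B hB C hC).le_normalizer hx)
    show cjS x '' 𝒟 = 𝒟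
    rw [Set.image_congr this, Set.image_id']
  obtain ⟨t, ⟨htG, htN⟩, ht⟩ := SetLike.exists_of_lt (Fusion.Alperin.lt_inf_normalizer hG
    (lt_of_le_of_ne (inf_le_left : G ⊓ S ≤ G) fun e => hnot (inf_eq_left.1 e)))
  refine ht ⟨htG, ?_⟩
  have hcomm : ∀ C ∈ 𝒟, ∀ B ∈ 𝒟, Comm B (cjS t C) := by
    intro C hC B hB
    have hC' : cjS t C ≤ G ⊓ S := by
      rintro _ ⟨c, hc, rfl⟩
      exact (Subgroup.mem_normalizer_iff.1 htN c).1 (hmem C hC hc)
    refine comm_of_permute hns hpW hsep hG (hF.1 B hB) (hle B hB) ((hF.1 C hC).conj t)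
      (hC'.trans inf_le_left) (fun r hr s hs => ?_) (fun r hr s hs => ?_)
    · have h1 : ∀ x ∈ cjS t C, cjS x B ∈ 𝒟 := fun x hx => by
        have h2 : cjS x '' 𝒟 = 𝒟 := (hC' hx).2
        rw [← h2]; exact ⟨B, hB, rfl⟩
      exact hF.2 _ (h1 r hr) _ (h1 s hs)
    · have h1 : ∀ x ∈ B, ∃ C' ∈ 𝒟, cjS x (cjS t C) = cjS t C' := fun x hx => by
        have h3 : t⁻¹ * x * t ∈ G ⊓ S :=
          (Subgroup.mem_normalizer_iff''.1 htN x).1 (hmem B hB hx)
        have h2 : cjS (t⁻¹ * x * t) '' 𝒟 = 𝒟 := h3.2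
        refine ⟨cjS (t⁻¹ * x * t) C, h2 ▸ ⟨C, hC, rfl⟩, ?_⟩
        rw [cjS_cjS, cjS_cjS]
        congr 1
        group
      obtain ⟨C₁, hC₁, e₁⟩ := h1 r hr
      obtain ⟨C₂, hC₂, e₂⟩ := h1 s hs
      rw [e₁, e₂]
      rintro _ ⟨c, hc, rfl⟩ _ ⟨d, hd, rfl⟩
      rw [← map_mul, ← map_mul, hF.2 C₁ hC₁ C₂ hC₂ c hc d hd]
  have hsub : cjS t '' 𝒟 ⊆ 𝒟 := by
    rintro _ ⟨C, hC, rfl⟩
    have hC' : Atom p W (cjS t C) := (hF.1 C hC).conj t
    have hins : A ∈ insert (cjS t C) 𝒟 ∧ Fam p W (insert (cjS t C) 𝒟) ∧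
        ∀ B ∈ insert (cjS t C) 𝒟, B ≤ G := by
      refine ⟨Set.mem_insert_of_mem _ hA', ⟨?_, ?_⟩, ?_⟩
      · rintro B (rfl | hB)
        exacts [hC', hF.1 B hB]
      · rintro B (rfl | hB) D (rfl | hD)
        exacts [hC'.comm, (hcomm C hC D hD).symm, hcomm C hC B hB, hF.2 B hB D hD]
      · rintro B (rfl | hB)
        · rintro _ ⟨c, hc, rfl⟩
          exact G.mul_mem (G.mul_mem htG (hle C hC hc)) (G.inv_mem htG)
        · exact hle B hB
    by_contra hnin
    have h1 := hmax _ hins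
    have h2 := Set.ncard_insert_of_notMem hnin (Set.toFinite 𝒟)
    omega
  show cjS t '' 𝒟 = 𝒟
  exact Set.eq_of_subset_of_ncard_le hsub
    (Set.ncard_image_of_injective _ (Subgroup.map_injective (MulAut.conj t).injective)).ge
    (Set.toFinite _)

/-- Atoms inside a `p`-group commute. -/
theorem comm_atoms {G A B : Subgroup H} (hG : IsPGroup p G) (hA : Atom p W A) (hAG : A ≤ G)
    (hB : Atom p W B) (hBG : B ≤ G) : Comm A B := by
  obtain ⟨𝒟, hA', hF, -, hinv⟩ := exists_invariant hns hpW hsep hG hA hAG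
  obtain ⟨ℰ, hB', hF', -, hinv'⟩ := exists_invariant hns hpW hsep hG hB hBG
  exact comm_of_permute hns hpW hsep hG hA hAG hB hBG
    (fun r hr s hs => hF.2 _ (hinv r (hBG hr) A hA') _ (hinv s (hBG hs) A hA'))
    (fun r hr s hs => hF'.2 _ (hinv' r (hAG hr) B hB') _ (hinv' s (hAG hs) B hB'))

/-- An exact quadratic subgroup normalises every atom lying in a common `p`-group. -/
theorem le_normalizer_atom {G R B : Subgroup H} (hG : IsPGroup p G) (hR : Ex p W R)
    (hq : Quad W R) (hRG : R ≤ G) (hB : Atom p W B) (hBG : B ≤ G) :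
    R ≤ Subgroup.normalizer (B : Set H) := by
  have hle : ∀ r ∈ R, cjS r B ≤ G := by
    rintro r hr _ ⟨b, hb, rfl⟩
    exact G.mul_mem (G.mul_mem (hRG hr) (hBG hb)) (G.inv_mem (hRG hr))
  exact le_normalizer_of_orbit hns hpW hsep hG hR hq hRG hB hBG fun r hr s hs =>
    comm_atoms hns hpW hsep hG (hB.conj r) (hle r hr) (hB.conj s) (hle s hs)

end Cfsg.Agent.Lib.NoStrictAtoms69
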