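import Cfsg.Agent.Lib.NoStrict.Main
import Cfsg.Agent.Lib.RankOneFF.PMinimal
import Cfsg.Agent.Lib.OffenderComp.Facts

/-!
# Exact abelian subgroups when there are no strict offenders

`H` acts on the finite elementary abelian group `W` and every abelian `p`-subgroup `A` has
`|A| |C_W(A)| ≤ |W|`.  The subgroups with equality form a lattice on every abelian subgroup.
The minimal nontrivial ones, the atoms, act quadratically.
-/

set_option autoImplicit false
set_option linter.unusedSectionVars false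

namespace Cfsg.Agent.Lib.NoStrictAtoms69

open Cfsg.Agent.Lib.RankOneFF (fixW mem_fixW cjS mem_cjS conj_mem_cjS card_cjS mem_fixW_cjS
  card_fixW_cjS card_add_mul_card_inf)

variable {H : Type*} [Group H] {W : Type*} [AddCommGroup W] [DistribMulAction H W] {p : ℕ}

/-- Elementwise commuting. -/
def Comm (A B : Subgroup H) : Prop := ∀ a ∈ A, ∀ b ∈ B, a * b = b * a

theorem Comm.symm {A B : Subgroup H} (h : Comm A B) : Comm B A :=
  fun b hb a ha => (h a ha b hb).symm

theorem Comm.mono {A B A' B' : Subgroup H} (h : Comm A B) (hA : A' ≤ A) (hB : B' ≤ B) :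
    Comm A' B' := fun a ha b hb => h a (hA ha) b (hB hb)

theorem comm_sSup {S : Set (Subgroup H)} {A : Subgroup H} (h : ∀ B ∈ S, Comm A B) :
    Comm A (sSup S) := by
  intro a ha b hb
  have : sSup S ≤ Subgroup.centralizer ({a} : Set H) := sSup_le fun B hB x hx => by
    rw [Subgroup.mem_centralizer_iff]
    rintro y rfl
    exact h B hB y ha x hx
  exact Subgroup.mem_centralizer_iff.1 (this hb) a rfl

theorem Comm.sup {A B C : Subgroup H} (hA : Comm A C) (hB : Comm B C) : Comm (A ⊔ B) C := by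
  have h := comm_sSup (S := {A, B}) (A := C) fun D hD => by
    rcases hD with rfl | rfl
    exacts [hA.symm, hB.symm]
  rw [sSup_pair] at h
  exact h.symm

theorem fixW_anti {A B : Subgroup H} (h : A ≤ B) : fixW W B ≤ fixW W A :=
  fun _ hw a ha => hw a (h ha)

theorem fixW_sup (A B : Subgroup H) : fixW W (A ⊔ B) = fixW W A ⊓ fixW W B := by
  refine le_antisymm (le_inf (fixW_anti le_sup_left) (fixW_anti le_sup_right)) ?_
  intro w hw g hg
  have : A ⊔ B ≤ MulAction.stabilizer H w :=
    sup_le (fun a ha => hw.1 a ha) fun b hb => hw.2 b hb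
  exact this hg

theorem fixW_sSup {S : Set (Subgroup H)} {w : W} (h : ∀ B ∈ S, w ∈ fixW W B) :
    w ∈ fixW W (sSup S) := by
  intro g hg
  have : sSup S ≤ MulAction.stabilizer H w := sSup_le fun B hB b hb => h B hB b hb
  exact this hg

theorem card_fixW_bot : Nat.card (fixW W (⊥ : Subgroup H)) = Nat.card W :=
  Nat.card_congr ⟨Subtype.val, fun w => ⟨w, fun a ha => by rw [Subgroup.mem_bot.1 ha, one_smul]⟩,
    fun _ => rfl, fun _ => rfl⟩

variable [Finite W]

theorem card_sup_mul_inf (C D : AddSubgroup W) :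
    Nat.card C * Nat.card D = Nat.card ↥(C ⊔ D) * Nat.card ↥(C ⊓ D) := by
  rw [card_add_mul_card_inf, RankOneFF.PMinimal.range_coprod_subtype]

theorem eq_of_le_of_card_le {C D : AddSubgroup W} (h : C ≤ D) (hc : Nat.card D ≤ Nat.card C) :
    C = D := AddSubgroup.eq_of_le_of_card_ge h hc

theorem mem_sup_cases {C D : AddSubgroup W} (h : C ⊔ D = ⊤) (w : W) :
    ∃ c ∈ C, ∃ d ∈ D, c + d = w := AddSubgroup.mem_sup.1 (h ▸ AddSubgroup.mem_top w)

variable [Finite H]

/-- No strict offenders. -/
def NS (p : ℕ) (W : Type*) [AddCommGroup W] [DistribMulAction H W] : Prop :=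
  ∀ A : Subgroup H, IsPGroup p A → Comm A A → Nat.card A * Nat.card (fixW W A) ≤ Nat.card W

/-- An abelian `p`-subgroup with `|A| |C_W(A)| ≥ |W|`. -/
structure Ex (p : ℕ) (W : Type*) [AddCommGroup W] [DistribMulAction H W] (A : Subgroup H) :
    Prop where
  pgroup : IsPGroup p A
  comm : Comm A A
  le : Nat.card W ≤ Nat.card A * Nat.card (fixW W A)

/-- `A` acts quadratically. -/
def Quad (W : Type*) [AddCommGroup W] [DistribMulAction H W] (A : Subgroup H) : Prop :=
  ∀ a ∈ A, ∀ w : W, a • w - w ∈ fixW W A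

theorem Quad.mono {A B : Subgroup H} (h : Quad W A) (hB : B ≤ A) : Quad W B :=
  fun b hb w => fixW_anti hB (h b (hB hb) w)

theorem Quad.conj {A : Subgroup H} (h : Quad W A) (g : H) : Quad W (cjS g A) := by
  intro x hx w
  rw [mem_fixW_cjS]
  have h1 := h _ (mem_cjS.1 hx) (g⁻¹ • w)
  rwa [mul_smul, mul_smul, smul_inv_smul, ← smul_sub] at h1

theorem Ex.eq {A : Subgroup H} (h : Ex p W A) (hns : NS (H := H) p W) :
    Nat.card A * Nat.card (fixW W A) = Nat.card W :=
  le_antisymm (hns A h.pgroup h.comm) h.le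

theorem Ex.conj {A : Subgroup H} (h : Ex p W A) (g : H) : Ex p W (cjS g A) := by
  refine ⟨h.pgroup.map _, ?_, by rw [card_cjS, card_fixW_cjS]; exact h.le⟩
  rintro _ ⟨a, ha, rfl⟩ _ ⟨b, hb, rfl⟩
  rw [← map_mul, ← map_mul, h.comm a ha b hb]

theorem ex_bot : Ex (H := H) p W ⊥ := by
  refine ⟨IsPGroup.of_bot, fun a ha b _ => ?_, ?_⟩
  · rw [Subgroup.mem_bot.1 ha, one_mul, mul_one]
  · rw [Subgroup.card_bot, one_mul, card_fixW_bot]

theorem Comm.le_normalizer {A B : Subgroup H} (h : Comm A B) :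
    A ≤ Subgroup.normalizer (B : Set H) := by
  intro a ha
  rw [Subgroup.mem_normalizer_iff]
  intro x
  constructor
  · intro hx
    rw [h a ha x hx, mul_inv_cancel_right]
    exact hx
  · intro hx
    have h1 := h a ha _ hx
    have h2 : a * x * a⁻¹ = x := by
      have := congrArg (fun z => a⁻¹ * z) h1
      simp only [inv_mul_cancel_left] at this
      rw [this]; group
    rwa [h2] at hx

section Lattice

variable [Fact p.Prime] (hns : NS (H := H) p W) {A B : Subgroup H}

theorem pgroup_sup_of_comm (hA : IsPGroup p A) (hB : IsPGroup p B) (h : Comm A B) :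
    IsPGroup p ↥(A ⊔ B) :=
  hA.to_sup_of_normal_right' hB h.le_normalizer

include hns

/-- The lattice property. -/
theorem Ex.lattice (hA : Ex p W A) (hB : Ex p W B) (h : Comm A B) :
    Ex p W (A ⊔ B) ∧ Ex p W (A ⊓ B) ∧ fixW W A ⊔ fixW W B = fixW W (A ⊓ B) := by
  have hc : Comm (A ⊔ B) (A ⊔ B) := by
    have h1 : Comm A (A ⊔ B) := (Comm.sup hA.comm h.symm).symm
    have h2 : Comm B (A ⊔ B) := (Comm.sup h hB.comm).symm
    exact Comm.sup h1 h2
  have hp := pgroup_sup_of_comm hA.pgroup hB.pgroup h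
  have hi : IsPGroup p ↥(A ⊓ B) := hA.pgroup.to_le inf_le_left
  have hic : Comm (A ⊓ B) (A ⊓ B) := hA.comm.mono inf_le_left inf_le_left
  have hg := OffenderComp.Aux.card_sup_inf h.le_normalizer
  have hw := card_sup_mul_inf (fixW W A) (fixW W B)
  rw [← fixW_sup] at hw
  have hle : fixW W A ⊔ fixW W B ≤ fixW W (A ⊓ B) :=
    sup_le (fixW_anti inf_le_left) (fixW_anti inf_le_right)
  have h1 := hns _ hp hc
  have h2 := hns _ hi hic
  set a := Nat.card ↥(A ⊔ B) * Nat.card (fixW W (A ⊔ B))
  set b := Nat.card ↥(A ⊓ B) * Nat.card (fixW W (A ⊓ B))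
  set c := Nat.card ↥(A ⊓ B) * Nat.card ↥(fixW W A ⊔ fixW W B)
  have hcb : c ≤ b := Nat.mul_le_mul_left _ (AddSubgroup.card_le_of_le hle)
  have hprod : a * c = Nat.card W * Nat.card W := by
    calc a * c = (Nat.card ↥(A ⊔ B) * Nat.card ↥(A ⊓ B)) *
        (Nat.card ↥(fixW W A ⊔ fixW W B) * Nat.card ↥(fixW W (A ⊔ B))) := by ring
      _ = (Nat.card A * Nat.card (fixW W A)) * (Nat.card B * Nat.card (fixW W B)) := by
        rw [hg, ← hw]; ring
      _ = _ := by rw [hA.eq hns, hB.eq hns]
  have hpos : 0 < Nat.card W := Nat.card_pos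
  have e1 : a = Nat.card W := by
    refine le_antisymm h1 ?_
    by_contra hlt
    push Not at hlt
    have : a * c < Nat.card W * Nat.card W :=
      Nat.mul_lt_mul_of_lt_of_le hlt (hcb.trans h2) hpos
    omega
  have e2 : c = Nat.card W := by
    rw [e1] at hprod
    exact Nat.eq_of_mul_eq_mul_left hpos hprod
  refine ⟨⟨hp, hc, e1.ge⟩, ⟨hi, hic, e2.ge.trans hcb⟩, eq_of_le_of_card_le hle ?_⟩
  exact Nat.le_of_mul_le_mul_left (h2.trans e2.ge) Nat.card_pos

/-- A `p`-element acting trivially is trivial. -/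
theorem NS.eq_one_of_fix {P : Subgroup H} (hP : IsPGroup p P) {x : H} (hx : x ∈ P)
    (h : ∀ w : W, x • w = w) : x = 1 := by
  have hz : Subgroup.zpowers x ≤ P := Subgroup.zpowers_le.2 hx
  have h1 := hns (Subgroup.zpowers x) (hP.to_le hz) (by
    rintro _ ⟨i, rfl⟩ _ ⟨j, rfl⟩
    exact ((Commute.refl x).zpow_zpow i j).eq)
  have h2 : Nat.card (fixW W (Subgroup.zpowers x)) = Nat.card W := by
    refine Nat.card_congr ⟨Subtype.val, fun w => ⟨w, ?_⟩, fun _ => rfl, fun _ => rfl⟩
    intro a ha
    exact (Subgroup.zpowers_le.2 (show x ∈ MulAction.stabilizer H w from h w)) ha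
  rw [h2] at h1
  have h3 : Nat.card ↥(Subgroup.zpowers x) ≤ 1 := Nat.le_of_mul_le_mul_right
    (by rw [one_mul]; exact h1) Nat.card_pos
  have := Subgroup.card_eq_one.1 (le_antisymm h3 Nat.card_pos)
  exact Subgroup.mem_bot.1 (this ▸ Subgroup.mem_zpowers x)

/-- Two elements of a `p`-group whose commutator maps annihilate each other commute. -/
theorem NS.commute_of_annihilate {P : Subgroup H} (hP : IsPGroup p P) {a b : H} (ha : a ∈ P)
    (hb : b ∈ P) (h1 : ∀ w : W, a • (b • w - w) = b • w - w)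
    (h2 : ∀ w : W, b • (a • w - w) = a • w - w) : a * b = b * a := by
  have hw : ∀ w : W, (a * b) • w = (b * a) • w := by
    intro w
    have e1 := h1 w
    have e2 := h2 w
    rw [smul_sub, sub_eq_iff_eq_add] at e1 e2
    rw [mul_smul, mul_smul, e1, e2]
    abel
  have := NS.eq_one_of_fix hns hP (P.mul_mem (P.inv_mem (P.mul_mem hb ha)) (P.mul_mem ha hb))
    fun w => by rw [mul_smul, hw, inv_smul_smul]
  exact (inv_mul_eq_one.1 this).symm

theorem eq_bot_of_fixW_top (hA : IsPGroup p A) (h : ∀ w : W, w ∈ fixW W A) : A = ⊥ :=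
  (Subgroup.eq_bot_iff_forall A).2 fun a ha => NS.eq_one_of_fix hns hA ha fun w => h w a ha

end Lattice

/-- A minimal nontrivial exact subgroup. -/
structure Atom (p : ℕ) (W : Type*) [AddCommGroup W] [DistribMulAction H W] (A : Subgroup H) :
    Prop extends Ex p W A where
  ne : A ≠ ⊥
  min : ∀ B : Subgroup H, B ≤ A → Ex p W B → B = ⊥ ∨ B = A

theorem Atom.conj {A : Subgroup H} (h : Atom p W A) (g : H) : Atom p W (cjS g A) where
  toEx := h.toEx.conj g
  ne e := h.ne ((Subgroup.map_eq_bot_iff_of_injective A (MulAut.conj g).injective).1 e)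
  min B hB hBe := by
    have h1 : cjS g (cjS g⁻¹ B) = B := by
      rw [NoStrict.cjS_cjS, mul_inv_cancel]; ext x; simp
    have h2 : cjS g⁻¹ B ≤ A := by
      intro x hx
      rw [mem_cjS, inv_inv] at hx
      have h3 := mem_cjS.1 (hB hx)
      rwa [show g⁻¹ * (g * x * g⁻¹) * g = x by group] at h3
    rcases h.min _ h2 (hBe.conj g⁻¹) with e | e
    · left; rw [← h1, e]; exact Subgroup.map_bot _
    · right; rw [← h1, e]

section Atom

variable [Fact p.Prime] (hns : NS (H := H) p W) {A B : Subgroup H}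

omit hns in
/-- Every nontrivial exact subgroup contains an atom. -/
theorem Ex.exists_atom (hA : Ex p W A) (hne : A ≠ ⊥) : ∃ B ≤ A, Atom p W B := by
  obtain ⟨B, ⟨hBA, hB, hBne⟩, hmin⟩ := Set.exists_min_image
    {B : Subgroup H | B ≤ A ∧ Ex p W B ∧ B ≠ ⊥} (fun B => Nat.card B) (Set.toFinite _)
    ⟨A, le_rfl, hA, hne⟩
  refine ⟨B, hBA, hB, hBne, fun C hC hCe => ?_⟩
  by_cases hC0 : C = ⊥
  · exact Or.inl hC0
  · exact Or.inr (Subgroup.eq_of_le_of_card_ge hC (hmin C ⟨hC.trans hBA, hCe, hC0⟩))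

include hns

theorem Atom.inf_eq_bot (hA : Atom p W A) (hB : Atom p W B) (h : Comm A B) (hne : A ≠ B) :
    A ⊓ B = ⊥ := by
  have h1 := (hA.toEx.lattice hns hB.toEx h).2.1
  rcases hA.min _ inf_le_left h1 with e | e
  · exact e
  · exfalso
    rcases hB.min A (inf_eq_left.1 e) hA.toEx with e' | e'
    exacts [hA.ne e', hne e']

theorem Atom.sup_top (hA : Atom p W A) (hB : Atom p W B) (h : Comm A B) (hne : A ≠ B) :
    fixW W A ⊔ fixW W B = ⊤ := by
  rw [(hA.toEx.lattice hns hB.toEx h).2.2, hA.inf_eq_bot hns hB h hne]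
  exact eq_top_iff.2 fun w _ a ha => by rw [Subgroup.mem_bot.1 ha, one_smul]

/-- A vector moved by `b` is moved into the fixed space of every commuting atom. -/
theorem Atom.comm_fix (hA : Atom p W A) (hB : Atom p W B) (h : Comm A B) (hne : A ≠ B) {b : H}
    (hb : b ∈ B) (w : W) : b • w - w ∈ fixW W A := by
  obtain ⟨c, hc, d, hd, rfl⟩ := mem_sup_cases (hA.sup_top hns hB h hne) w
  intro a ha
  rw [smul_add, hd b hb, show b • c + d - (c + d) = b • c - c by abel, smul_sub, ← mul_smul,
    h a ha b hb, mul_smul, hc a ha]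

/-- An exact subgroup none of whose proper nontrivial subgroups is exact is quadratic. -/
theorem Atom.quad (hpW : ∀ w : W, p • w = 0) (hA : Atom p W A) : Quad W A := by
  intro a ha v d hd
  have hcl := hA.comm
  have hex : Ex p W (NoStrict.fixComm A v) :=
    ⟨hA.pgroup.to_le (NoStrict.fixComm_le A v),
      hA.comm.mono (NoStrict.fixComm_le A v) (NoStrict.fixComm_le A v),
      hA.le.trans (NoStrict.card_mul_le_fixComm hA.comm v)⟩
  rcases hA.min _ (NoStrict.fixComm_le A v) hex with e | e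
  · exfalso
    -- `(a, c) ↦ a v - v + c` is onto, so `v` is fixed
    let f : A × fixW W A → W := fun x => (x.1 : H) • v - v + (x.2 : W)
    have hf : Function.Injective f := by
      rintro ⟨⟨x, hx⟩, c⟩ ⟨⟨y, hy⟩, c'⟩ he
      change x • v - v + (c : W) = y • v - v + (c' : W) at he
      have hy' : y⁻¹ * x ∈ A := A.mul_mem (A.inv_mem hy) hx
      have hz : (y⁻¹ * x) • v - v = (c' : W) - c := by
        have h0 : x • v = y • v + ((c' : W) - c) := by
          calc x • v = (x • v - v + (c : W)) + (v - (c : W)) := by abel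
            _ = (y • v - v + (c' : W)) + (v - (c : W)) := by rw [he]
            _ = _ := by abel
        rw [mul_smul, h0, smul_add, inv_smul_smul,
          (sub_mem c'.2 c.2 : (c' : W) - c ∈ fixW W A) _ (A.inv_mem hy)]
        abel
      have hmem : y⁻¹ * x ∈ NoStrict.fixComm A v := by
        refine ⟨hy', fun z hzA => ?_⟩
        have hdv : (y⁻¹ * x) • v = v + ((c' : W) - c) := by rw [← hz]; abel
        rw [smul_sub, ← mul_smul, hcl _ hy' z hzA, mul_smul, hdv, smul_add,
          (sub_mem c'.2 c.2 : (c' : W) - c ∈ fixW W A) _ hzA]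
        abel
      rw [e, Subgroup.mem_bot, inv_mul_eq_one] at hmem
      subst hmem
      exact Prod.ext rfl (Subtype.ext (add_left_cancel he))
    have hbij : Function.Bijective f := by
      have := Fintype.ofFinite A
      have := Fintype.ofFinite W
      refine hf.bijective_of_nat_card_le ?_
      rw [Nat.card_prod]
      exact hA.le
    obtain ⟨⟨⟨x, hx⟩, c⟩, hxc⟩ := hbij.2 v
    change x • v - v + (c : W) = v at hxc
    set u : W := v - c with hu
    have hxu : x • u = (2 : ℕ) • u := by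
      have h0 : x • v = v + v - (c : W) := by
        calc x • v = (x • v - v + (c : W)) + (v - (c : W)) := by abel
          _ = v + (v - (c : W)) := by rw [hxc]
          _ = _ := by abel
      rw [hu, smul_sub, h0, c.2 x hx, two_nsmul]; abel
    have hpow : ∀ n : ℕ, (x ^ n) • u = (2 ^ n : ℕ) • u := by
      intro n
      induction n with
      | zero => simp
      | succ n ih => rw [pow_succ', mul_smul, ih, smul_comm, hxu, smul_smul, ← pow_succ]
    obtain ⟨k, hk⟩ := hA.pgroup ⟨x, hx⟩
    have hk' : x ^ p ^ k = 1 := congrArg Subtype.val hk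
    have h2 := hpow (p ^ k)
    rw [hk', one_smul] at h2
    have hz : ((2 ^ (p ^ k) : ℕ) : ZMod p) = 2 := by
      rw [Nat.cast_pow, ZMod.pow_card_pow]; rfl
    have hmod : (2 ^ (p ^ k)) % p = 2 % p :=
      (ZMod.natCast_eq_natCast_iff' _ _ p).1 (by rw [hz]; rfl)
    have hred : ∀ n : ℕ, n • u = (n % p) • u := by
      intro n
      conv_lhs => rw [← Nat.div_add_mod n p, add_nsmul, mul_comm, mul_nsmul', hpW, nsmul_zero,
        zero_add]
    rw [hred, hmod, ← hred, two_nsmul] at h2
    have hu0 : u = 0 := by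
      have : u + 0 = u + u := by rw [add_zero]; exact h2
      exact (add_left_cancel this).symm
    have hv : v ∈ fixW W A := by
      rw [show v = (c : W) from sub_eq_zero.1 hu0]
      exact c.2
    have : a ∈ NoStrict.fixComm A v := ⟨ha, fun b hb => by rw [hv b hb, sub_self, smul_zero]⟩
    rw [e, Subgroup.mem_bot] at this
    subst this
    refine hA.ne ((Subgroup.eq_bot_iff_forall A).2 fun b hb => ?_)
    have : b ∈ NoStrict.fixComm A v :=
      ⟨hb, fun z hz => by rw [hv z hz, sub_self, smul_zero]⟩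
    rwa [e, Subgroup.mem_bot] at this
  · have : d ∈ NoStrict.fixComm A v := e.symm ▸ hd
    exact this.2 a ha

/-- A finite family of pairwise commuting exact subgroups generates an exact subgroup. -/
theorem ex_sSup {S : Set (Subgroup H)} (hS : ∀ A ∈ S, Ex p W A)
    (hc : ∀ A ∈ S, ∀ B ∈ S, Comm A B) : Ex p W (sSup S) := by
  induction S, S.toFinite using Set.Finite.induction_on with
  | empty => rw [sSup_empty]; exact ex_bot
  | @insert A S _ _ ih =>
    rw [sSup_insert]
    exact ((hS A (Set.mem_insert _ _)).lattice hns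
      (ih (fun B hB => hS B (Set.mem_insert_of_mem _ hB)) fun B hB C hC =>
        hc B (Set.mem_insert_of_mem _ hB) C (Set.mem_insert_of_mem _ hC))
      (comm_sSup fun B hB => hc A (Set.mem_insert _ _) B (Set.mem_insert_of_mem _ hB))).1

end Atom

end Cfsg.Agent.Lib.NoStrictAtoms69
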