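import Cfsg.Agent.Lib.NoStrictAtoms69.Basic

/-!
# The sections used by the descent

`X` is a proper subgroup outside `M` with Sylow subgroup `P ≤ M`; `Q = O_p(X)` and `X ⧸ Q` acts on
`C_W(Q)` with the same hypotheses.  An exact subgroup of `P` meets `Q` in an exact subgroup and has
an exact image; exact subgroups of the image pull back.
-/

set_option autoImplicit false
set_option linter.unusedSectionVars false

namespace Cfsg.Agent.Lib.NoStrictAtoms69

open Cfsg.Agent.Lib.RankOneFF (fixW mem_fixW cjS mem_cjS conj_mem_cjS card_cjS mem_fixW_cjS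
  card_fixW_cjS)
open Cfsg.Agent.Lib.NoStrict (PMin OnlyIn quotAct)

attribute [local instance] quotAct

universe u v

variable {H : Type u} [Group H] {W : Type v} [AddCommGroup W] [DistribMulAction H W] {p : ℕ}

variable (p) in
/-- `O_p(X)` inside `H`. -/
abbrev coreH (X : Subgroup H) : Subgroup H := (Cfsg.pCore p X).map X.subtype

/-- The fixed points of `O_p(X)`. -/
abbrev fixQ (p : ℕ) (W : Type v) [AddCommGroup W] [DistribMulAction H W] (X : Subgroup H) :
    AddSubgroup W := fixW W (Cfsg.pCore p X)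

variable (p) in
/-- The image in `X ⧸ O_p(X)`. -/
abbrev img (X B : Subgroup H) : Subgroup (X ⧸ Cfsg.pCore p X) :=
  (B.subgroupOf X).map (QuotientGroup.mk' (Cfsg.pCore p X))

variable (p) in
/-- The elements of `R` with image in `B`. -/
def pre (X R : Subgroup H) (B : Subgroup (X ⧸ Cfsg.pCore p X)) : Subgroup H :=
  R ⊓ (B.comap (QuotientGroup.mk' (Cfsg.pCore p X))).map X.subtype

/-- The local hypotheses. -/
structure Loc (p : ℕ) (M X P : Subgroup H) : Prop where
  ne_top : X ≠ ⊤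
  not_le : ¬ X ≤ M
  le : P ≤ X
  le_M : P ≤ M
  pgroup : IsPGroup p P
  sylow : ¬ p ∣ P.relIndex X
  only : ∀ Z, P ≤ Z → Z ≤ X → Z ≠ X → Z ≤ M

theorem mem_img {X B : Subgroup H} {y : X ⧸ Cfsg.pCore p X} :
    y ∈ img p X B ↔ ∃ x : X, (x : H) ∈ B ∧ QuotientGroup.mk x = y := Iff.rfl

theorem mk_mem_img {X B : Subgroup H} {x : X} (hx : (x : H) ∈ B) :
    (QuotientGroup.mk x : X ⧸ Cfsg.pCore p X) ∈ img p X B := ⟨x, hx, rfl⟩

theorem mem_coreH {X : Subgroup H} {x : X} :
    (x : H) ∈ coreH p X ↔ (QuotientGroup.mk x : X ⧸ Cfsg.pCore p X) = 1 := by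
  rw [QuotientGroup.eq_one_iff]
  exact ⟨fun ⟨y, hy, e⟩ => (Subtype.ext e : y = x) ▸ hy, fun h => ⟨x, h, rfl⟩⟩

theorem coreH_le (X : Subgroup H) : coreH p X ≤ X := Subgroup.map_subtype_le _

theorem le_normalizer_coreH (X : Subgroup H) : X ≤ Subgroup.normalizer (coreH p X : Set H) := by
  intro x hx
  refine Subgroup.mem_normalizer_iff.2 fun y => ⟨?_, ?_⟩
  · rintro ⟨q, hq, rfl⟩
    exact ⟨⟨x, hx⟩ * q * ⟨x, hx⟩⁻¹, Subgroup.Normal.conj_mem inferInstance q hq _, rfl⟩
  · rintro ⟨q, hq, he⟩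
    refine ⟨⟨x, hx⟩⁻¹ * q * ⟨x, hx⟩, Subgroup.Normal.conj_mem' inferInstance q hq _, ?_⟩
    change x⁻¹ * (q : H) * x = y
    rw [show (q : H) = x * y * x⁻¹ from he]
    group

theorem coe_mk_smul (X : Subgroup H) (x : X) (w : fixQ p W X) :
    (((QuotientGroup.mk x : X ⧸ Cfsg.pCore p X) • w : fixQ p W X) : W) = (x : H) • (w : W) := rfl

theorem fixQ_fix {X : Subgroup H} {w : W} (hw : w ∈ fixQ p W X) {x : H} (hx : x ∈ coreH p X) :
    x • w = w := by
  obtain ⟨y, hy, rfl⟩ := hx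
  exact hw y hy

theorem fixQ_le_fixW {X B : Subgroup H} (hB : B ≤ coreH p X) : fixQ p W X ≤ fixW W B :=
  fun _ hw _ hb => fixQ_fix hw (hB hb)

theorem mem_fix_img {X B : Subgroup H} (hBX : B ≤ X) {w : fixQ p W X} :
    w ∈ fixW (fixQ p W X) (img p X B) ↔ (w : W) ∈ fixW W B := by
  constructor
  · intro h b hb
    exact congrArg Subtype.val (h _ (mk_mem_img (x := ⟨b, hBX hb⟩) hb))
  · intro h y hy
    obtain ⟨x, hx, rfl⟩ := mem_img.1 hy
    exact Subtype.ext (h (x : H) hx)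

theorem card_fix_img {X B : Subgroup H} (hBX : B ≤ X) :
    Nat.card (fixW (fixQ p W X) (img p X B)) = Nat.card ↥(fixW W B ⊓ fixQ p W X) :=
  Nat.card_congr
    { toFun := fun w => ⟨((w : fixQ p W X) : W), (mem_fix_img hBX).1 w.2, (w : fixQ p W X).2⟩
      invFun := fun w => ⟨⟨(w : W), w.2.2⟩, (mem_fix_img hBX).2 w.2.1⟩
      left_inv := fun _ => rfl
      right_inv := fun _ => rfl }

theorem img_cjS {X B : Subgroup H} (hBX : B ≤ X) (x : X) :
    img p X (cjS (x : H) B) = cjS (QuotientGroup.mk x) (img p X B) := by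
  ext y
  constructor
  · intro hy
    obtain ⟨z, hz, rfl⟩ := mem_img.1 hy
    refine mem_cjS.2 ?_
    exact mk_mem_img (x := x⁻¹ * z * x) (mem_cjS.1 hz)
  · rintro ⟨b, hb, rfl⟩
    obtain ⟨z, hz, rfl⟩ := mem_img.1 hb
    exact mk_mem_img (x := x * z * x⁻¹) (conj_mem_cjS hz)

theorem comm_img {X A B : Subgroup H} (h : Comm A B) : Comm (img p X A) (img p X B) := by
  intro a ha b hb
  obtain ⟨x, hx, rfl⟩ := mem_img.1 ha
  obtain ⟨y, hy, rfl⟩ := mem_img.1 hb
  rw [← QuotientGroup.mk_mul, ← QuotientGroup.mk_mul,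
    show x * y = y * x from Subtype.ext (h _ hx _ hy)]

variable [Finite H] [Finite W]

theorem pgroup_img {X B : Subgroup H} (hB : IsPGroup p B) (hBX : B ≤ X) :
    IsPGroup p (img p X B) :=
  (hB.of_equiv (Subgroup.subgroupOfEquivOfLe hBX).symm).map _

theorem card_img {X B : Subgroup H} (hBX : B ≤ X) :
    Nat.card ↥(B ⊓ coreH p X) * Nat.card (img p X B) = Nat.card B := by
  set Q := Cfsg.pCore p X with hQ
  set φ := (QuotientGroup.mk' Q).comp (B.subgroupOf X).subtype with hφ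
  have h1 : φ.range = img p X B := by
    rw [hφ, MonoidHom.range_comp, Subgroup.range_subtype]
  have h2 : Nat.card φ.ker = Nat.card ↥(B ⊓ coreH p X) := Nat.card_congr
    { toFun := fun a => ⟨((a : B.subgroupOf X) : X),
        Subgroup.mem_subgroupOf.1 (a : B.subgroupOf X).2, mem_coreH.2 a.2⟩
      invFun := fun b => ⟨⟨⟨b, hBX b.2.1⟩, Subgroup.mem_subgroupOf.2 b.2.1⟩,
        mem_coreH.1 b.2.2⟩
      left_inv := fun a => rfl
      right_inv := fun b => rfl }
  rw [← h2, ← h1, ← Subgroup.index_ker φ, Subgroup.card_mul_index,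
    Nat.card_congr (Subgroup.subgroupOfEquivOfLe hBX).toEquiv]

variable [Fact p.Prime] {T : Sylow p H} {M X P : Subgroup H}

theorem Loc.coreH_le (hL : Loc p M X P) : coreH p X ≤ P := by
  have hP' : IsPGroup p (P.subgroupOf X) :=
    hL.pgroup.of_equiv (Subgroup.subgroupOfEquivOfLe hL.le).symm
  have h1 : Cfsg.pCore p X ≤ P.subgroupOf X := Cores.pCore_le_sylow (hP'.toSylow hL.sylow)
  exact (Subgroup.map_mono h1).trans (Subgroup.map_subgroupOf_eq_of_le hL.le).le

theorem Loc.card_lt (hL : Loc p M X P) : Nat.card (X ⧸ Cfsg.pCore p X) < Nat.card H := by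
  refine lt_of_le_of_lt (Nat.card_le_card_of_surjective _ (QuotientGroup.mk'_surjective _))
    (lt_of_le_of_ne ?_ fun e => hL.ne_top (Subgroup.eq_top_of_card_eq X e))
  exact Nat.card_le_card_of_injective _ X.subtype_injective

/-- The section satisfies the hypotheses. -/
theorem Loc.pmin (hL : Loc p M X P) (h : PMin p W T M) :
    ∃ (T' : Sylow p (X ⧸ Cfsg.pCore p X)) (M' : Subgroup (X ⧸ Cfsg.pCore p X)),
      PMin p (fixQ p W X) T' M' := by
  set Q : Subgroup X := Cfsg.pCore p X with hQ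
  have hP' : IsPGroup p (P.subgroupOf X) :=
    hL.pgroup.of_equiv (Subgroup.subgroupOfEquivOfLe hL.le).symm
  set PX : Sylow p X := hP'.toSylow hL.sylow with hPXdef
  have hQP : Q ≤ P.subgroupOf X := Cores.pCore_le_sylow PX
  set π : X →* X ⧸ Q := QuotientGroup.mk' Q with hπ
  set T' : Sylow p (X ⧸ Q) := PX.mapSurjective (f := π) (QuotientGroup.mk'_surjective Q) with hT'
  have hT'c : (T' : Subgroup (X ⧸ Q)) = (P.subgroupOf X).map π := rfl
  set M' : Subgroup (X ⧸ Q) := (M.subgroupOf X).map π with hM'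
  obtain ⟨u, hu, k, hk⟩ := h.moved
  obtain ⟨m, hm, hPT⟩ := h.exists_conj_le hL.pgroup hL.le_M
  have hu'P : ∀ y ∈ P, y • (m⁻¹ • u) = m⁻¹ • u := fun y hy =>
    (mem_fixW_cjS.1 fun a ha => hu a (hPT ha)) y hy
  have hu'Q : m⁻¹ • u ∈ fixW W Q := fun q hq => hu'P (q : H) (Subgroup.mem_subgroupOf.1 (hQP hq))
  refine ⟨T', M', fun e => hL.not_le ?_, ?_, fun Y hPY hY => ?_, ⟨⟨m⁻¹ • u, hu'Q⟩, ?_, ?_⟩⟩
  · have h1 : (M.subgroupOf X) ⊔ Q = ⊤ := by
      have := congrArg (Subgroup.comap π) e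
      rwa [hM', Subgroup.comap_map_eq, Subgroup.comap_top, QuotientGroup.ker_mk'] at this
    have h2 : Q ≤ M.subgroupOf X := fun q hq =>
      Subgroup.mem_subgroupOf.2 (hL.le_M (Subgroup.mem_subgroupOf.1 (hQP hq)))
    rw [sup_eq_left.2 h2, Subgroup.subgroupOf_eq_top] at h1
    exact h1
  · rw [hT'c]
    exact Subgroup.map_mono fun y hy =>
      Subgroup.mem_subgroupOf.2 (hL.le_M (Subgroup.mem_subgroupOf.1 hy))
  · rw [hT'c] at hPY
    have h1 : (Y.comap π).map X.subtype ≤ M := by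
      refine hL.only _ (fun y hy => ⟨⟨y, hL.le hy⟩, ?_, rfl⟩) (Subgroup.map_subtype_le _)
        fun e => hY ?_
      · exact hPY (Subgroup.mem_map_of_mem π (Subgroup.mem_subgroupOf.2 hy))
      · have h2 : Y.comap π = ⊤ := by
          refine top_le_iff.1 fun x _ => ?_
          obtain ⟨x', hx', hxe⟩ : (x : H) ∈ (Y.comap π).map X.subtype := e.symm ▸ x.2
          exact (Subtype.ext hxe : x' = x) ▸ hx'
        exact top_le_iff.1 ((Subgroup.map_comap_eq_self_of_surjective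
          (QuotientGroup.mk'_surjective Q) Y).symm ▸ by
            rw [h2, Subgroup.map_top_of_surjective _ (QuotientGroup.mk'_surjective Q)])
    intro y hy
    obtain ⟨x, rfl⟩ := QuotientGroup.mk'_surjective Q y
    exact Subgroup.mem_map_of_mem π (Subgroup.mem_subgroupOf.2 (h1 ⟨x, hy, rfl⟩))
  · rintro _ ⟨y, hy, rfl⟩
    exact Subtype.ext (hu'P (y : H) (Subgroup.mem_subgroupOf.1 hy))
  · by_contra hcon'
    push Not at hcon'
    refine hL.not_le fun x hx => ?_
    have h1 : x • (m⁻¹ • u) = m⁻¹ • u :=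
      congrArg Subtype.val (hcon' (QuotientGroup.mk (⟨x, hx⟩ : X)))
    have h2 : m * x * m⁻¹ ∈ MulAction.stabilizer H u := by
      rw [MulAction.mem_stabilizer_iff, mul_smul, mul_smul, h1, smul_inv_smul]
    have h3 := M.mul_mem (M.mul_mem (M.inv_mem hm) (h.stab_le hu hk h2)) hm
    rwa [show m⁻¹ * (m * x * m⁻¹) * m = x by group] at h3

theorem PMin.ns {T : Sylow p H} (h : PMin p W T M) (hO : Cfsg.pCore p H = ⊥) :
    NS (H := H) p W :=
  fun _ hA hc => h.no_strict hO hA hc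

theorem Loc.ns (hL : Loc p M X P) (h : PMin p W T M) :
    NS (H := X ⧸ Cfsg.pCore p X) p (fixQ p W X) := by
  obtain ⟨T', M', h'⟩ := hL.pmin h
  exact PMin.ns h' (Cores.pCore_quotient_pCore (G := X) p)

/-- The section of an exact subgroup. -/
theorem Loc.ex_section (hL : Loc p M X P) (h : PMin p W T M) (hns : NS (H := H) p W)
    {B : Subgroup H} (hB : Ex p W B) (hBP : B ≤ P) :
    Ex p W (B ⊓ coreH p X) ∧ Ex p (fixQ p W X) (img p X B) ∧
      fixW W (B ⊓ coreH p X) = fixW W B ⊔ fixQ p W X := by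
  have hBX : B ≤ X := hBP.trans hL.le
  have hle : fixW W B ⊔ fixQ p W X ≤ fixW W (B ⊓ coreH p X) :=
    sup_le (fixW_anti inf_le_left) (fixQ_le_fixW inf_le_right)
  have h0p : IsPGroup p ↥(B ⊓ coreH p X) := hB.pgroup.to_le inf_le_left
  have h0c : Comm (B ⊓ coreH p X) (B ⊓ coreH p X) := hB.comm.mono inf_le_left inf_le_left
  have h1 := hns _ h0p h0c
  have h2 := hL.ns h (img p X B) (pgroup_img hB.pgroup hBX) (comm_img hB.comm)
  have hcard := card_img (p := p) hBX
  have hw := card_sup_mul_inf (fixW W B) (fixQ p W X)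
  have hfi := card_fix_img (p := p) (W := W) hBX
  set c := Nat.card ↥(B ⊓ coreH p X) * Nat.card ↥(fixW W B ⊔ fixQ p W X)
  set a := Nat.card ↥(B ⊓ coreH p X) * Nat.card (fixW W (B ⊓ coreH p X))
  set b := Nat.card (img p X B) * Nat.card (fixW (fixQ p W X) (img p X B))
  have hca : c ≤ a := Nat.mul_le_mul_left _ (AddSubgroup.card_le_of_le hle)
  have hprod : c * b = Nat.card W * Nat.card (fixQ p W X) := by
    calc c * b = (Nat.card ↥(B ⊓ coreH p X) * Nat.card (img p X B)) *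
        (Nat.card ↥(fixW W B ⊔ fixQ p W X) * Nat.card ↥(fixW W B ⊓ fixQ p W X)) := by
          simp only [c, b, hfi]; ring
      _ = (Nat.card B * Nat.card (fixW W B)) * Nat.card (fixQ p W X) := by
        rw [hcard, ← hw]; ring
      _ = _ := by rw [hB.eq hns]
  have hpos : 0 < Nat.card W := Nat.card_pos
  have hpos' : 0 < Nat.card (fixQ p W X) := Nat.card_pos
  have e2 : c = Nat.card W := by
    refine le_antisymm (hca.trans h1) ?_
    by_contra hlt
    push Not at hlt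
    have : c * b < Nat.card W * Nat.card (fixQ p W X) :=
      Nat.mul_lt_mul_of_lt_of_le hlt h2 hpos'
    omega
  have e1 : b = Nat.card (fixQ p W X) := by
    rw [e2] at hprod
    exact Nat.eq_of_mul_eq_mul_left hpos hprod
  refine ⟨⟨h0p, h0c, e2.ge.trans hca⟩, ⟨pgroup_img hB.pgroup hBX, comm_img hB.comm, e1.ge⟩,
    (eq_of_le_of_card_le hle ?_).symm⟩
  exact Nat.le_of_mul_le_mul_left (h1.trans e2.ge) Nat.card_pos

/-- An exact subgroup of the image of `R` pulls back to an exact subgroup when `R ∩ Q = 1`. -/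
theorem Loc.ex_pre (hL : Loc p M X P) (h : PMin p W T M) (hns : NS (H := H) p W)
    {R : Subgroup H} (hR : Ex p W R) (hRP : R ≤ P) (hRQ : R ⊓ coreH p X = ⊥)
    {B : Subgroup (X ⧸ Cfsg.pCore p X)} (hB : Ex p (fixQ p W X) B) (hBR : B ≤ img p X R) :
    Ex p W (pre p X R B) ∧ img p X (pre p X R B) = B ∧
      fixW W (pre p X R B) =
        fixW W R ⊔ (fixW (fixQ p W X) B).map (fixQ p W X).subtype := by
  have hRX : R ≤ X := hRP.trans hL.le
  set A := pre p X R B with hA
  have hAR : A ≤ R := inf_le_left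
  have hAX : A ≤ X := hAR.trans hRX
  have himg : img p X A = B := by
    refine le_antisymm ?_ fun y hy => ?_
    · intro y hy
      obtain ⟨x, hx, rfl⟩ := mem_img.1 hy
      obtain ⟨x', hx', e⟩ := hx.2
      exact (Subtype.ext e : x' = x) ▸ hx'
    · obtain ⟨x, hx, rfl⟩ := mem_img.1 (hBR hy)
      exact mk_mem_img (x := x) ⟨hx, x, hy, rfl⟩
  have hA0 : A ⊓ coreH p X = ⊥ := le_bot_iff.1 (hRQ ▸ inf_le_inf_right _ hAR)
  have hcard := card_img (p := p) hAX
  rw [himg, hA0, Subgroup.card_bot, one_mul] at hcard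
  set D := (fixW (fixQ p W X) B).map (fixQ p W X).subtype with hD
  have hDle : D ≤ fixW W A := by
    rintro _ ⟨w, hw, rfl⟩
    rw [← himg] at hw
    exact (mem_fix_img hAX).1 hw
  have hle : fixW W R ⊔ D ≤ fixW W A := sup_le (fixW_anti hAR) hDle
  have hDW : D ≤ fixQ p W X := by rintro _ ⟨w, -, rfl⟩; exact w.2
  have hinf : fixW W R ⊓ D = fixW W R ⊓ fixQ p W X := by
    refine le_antisymm (inf_le_inf_left _ hDW) fun w hw => ⟨hw.1, ⟨w, hw.2⟩, ?_, rfl⟩
    exact fixW_anti hBR ((mem_fix_img hRX (w := ⟨w, hw.2⟩)).2 hw.1)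
  have hDcard : Nat.card D = Nat.card (fixW (fixQ p W X) B) :=
    (Nat.card_congr (AddSubgroup.equivMapOfInjective (fixW (fixQ p W X) B) (fixQ p W X).subtype
      Subtype.val_injective).toEquiv).symm
  have hw1 := card_sup_mul_inf (fixW W R) D
  have hw2 := card_sup_mul_inf (fixW W R) (fixQ p W X)
  have htop : fixW W R ⊔ fixQ p W X = ⊤ := by
    rw [← (hL.ex_section h hns hR hRP).2.2, hRQ]
    exact eq_top_iff.2 fun w _ a ha => by rw [Subgroup.mem_bot.1 ha, one_smul]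
  rw [htop, AddSubgroup.card_top, ← hinf] at hw2
  have hBe := hB.eq (hL.ns h)
  have e : Nat.card A * Nat.card ↥(fixW W R ⊔ D) = Nat.card W := by
    refine Nat.eq_of_mul_eq_mul_right (Nat.card_pos (α := ↥(fixW W R ⊓ D))) ?_
    rw [← hw2, mul_assoc, ← hw1, hDcard, ← hcard, ← hBe]
    ring
  have hc : Comm A A := hR.comm.mono hAR hAR
  have hp : IsPGroup p A := hR.pgroup.to_le hAR
  refine ⟨⟨hp, hc, e.ge.trans (Nat.mul_le_mul_left _ (AddSubgroup.card_le_of_le hle))⟩, himg,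
    (eq_of_le_of_card_le hle ?_).symm⟩
  exact Nat.le_of_mul_le_mul_left ((hns A hp hc).trans e.ge) Nat.card_pos

/-- An atom outside `Q` has an atom as image. -/
theorem Loc.atom_img (hL : Loc p M X P) (h : PMin p W T M) (hns : NS (H := H) p W)
    {A : Subgroup H} (hA : Atom p W A) (hAP : A ≤ P) (hAQ : ¬ A ≤ coreH p X) :
    A ⊓ coreH p X = ⊥ ∧ fixW W A ⊔ fixQ p W X = ⊤ ∧ Atom p (fixQ p W X) (img p X A) := by
  obtain ⟨he, hi, hf⟩ := hL.ex_section h hns hA.toEx hAP
  have h0 : A ⊓ coreH p X = ⊥ :=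
    (hA.min _ inf_le_left he).resolve_right fun e => hAQ (inf_eq_left.1 e)
  refine ⟨h0, ?_, hi, ?_, fun B hB hBe => ?_⟩
  · rw [← hf, h0]
    exact eq_top_iff.2 fun w _ a ha => by rw [Subgroup.mem_bot.1 ha, one_smul]
  · intro e
    have hcard := card_img (p := p) (hAP.trans hL.le)
    rw [e, h0, Subgroup.card_bot, Subgroup.card_bot, one_mul] at hcard
    exact hA.ne (Subgroup.card_eq_one.1 hcard.symm)
  · obtain ⟨hpe, hpi, -⟩ := hL.ex_pre h hns hA.toEx hAP h0 hBe hB
    rcases hA.min (pre p X A B) inf_le_left hpe with e | e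
    · left; rw [← hpi, e]; simp [img]
    · right; rw [← hpi, e]

end Cfsg.Agent.Lib.NoStrictAtoms69
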