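import Cfsg.Agent.Lib.NoStrictAtoms69.Section

/-!
# Separated atoms

In every family of pairwise commuting atoms some member `A` has a conjugate `A^g`, `g ∈ ⟨A, A^g⟩`,
with `C(A) + C(A^g) = W`, fixing `[W, B]` for the other members `B`, and such that `a w - w` is
fixed by `A^g` only if `a = 1` or `w ∈ C(A)`.  Hence the fixed points of a product of elements from
distinct members are fixed by each of them.
-/

set_option autoImplicit false
set_option linter.unusedSectionVars false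

namespace Cfsg.Agent.Lib.NoStrictAtoms69

open Cfsg.Agent.Lib.RankOneFF (fixW mem_fixW cjS mem_cjS conj_mem_cjS card_cjS mem_fixW_cjS
  card_fixW_cjS)
open Cfsg.Agent.Lib.NoStrict (PMin OnlyIn quotAct cjS_cjS)

attribute [local instance] quotAct

universe u v

variable {H : Type u} [Group H] {W : Type v} [AddCommGroup W] [DistribMulAction H W] {p : ℕ}

/-- The elements moving every vector into `C`. -/
def into (C : AddSubgroup W) : Subgroup H where
  carrier := {x | ∀ w : W, x • w - w ∈ C}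
  one_mem' w := by rw [one_smul, sub_self]; exact C.zero_mem
  mul_mem' {x y} hx hy w := by
    have : (x * y) • w - w = (x • (y • w) - y • w) + (y • w - w) := by rw [mul_smul]; abel
    rw [this]; exact C.add_mem (hx _) (hy w)
  inv_mem' {x} hx w := by
    have := C.neg_mem (hx (x⁻¹ • w))
    rwa [smul_inv_smul, neg_sub] at this

/-- A separated member. -/
structure Sep (W : Type*) [AddCommGroup W] [DistribMulAction H W] (𝒟 : Set (Subgroup H))
    (A : Subgroup H) (g : H) : Prop where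
  amem : A ∈ 𝒟
  mem : g ∈ A ⊔ cjS g A
  sup : fixW W A ⊔ fixW W (cjS g A) = ⊤
  fix : ∀ B ∈ 𝒟, B ≠ A → ∀ b ∈ B, ∀ w : W, b • w - w ∈ fixW W (cjS g A)
  reg : ∀ a ∈ A, ∀ w : W, a • w - w ∈ fixW W (cjS g A) → a = 1 ∨ w ∈ fixW W A

/-- A family of pairwise commuting atoms. -/
def Fam (p : ℕ) (W : Type*) [AddCommGroup W] [DistribMulAction H W] (𝒟 : Set (Subgroup H)) :
    Prop :=
  (∀ A ∈ 𝒟, Atom p W A) ∧ ∀ A ∈ 𝒟, ∀ B ∈ 𝒟, Comm A B

/-- Some member is separated. -/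
def HasSep (W : Type*) [AddCommGroup W] [DistribMulAction H W] (𝒟 : Set (Subgroup H)) : Prop :=
  ∃ A g, Sep W 𝒟 A g

variable (H) in
/-- All families are separated. -/
def AllSep (p : ℕ) (W : Type*) [AddCommGroup W] [DistribMulAction H W] : Prop :=
  ∀ 𝒟 : Set (Subgroup H), 𝒟.Nonempty → Fam p W 𝒟 → HasSep W 𝒟

theorem Fam.mono {𝒟 ℰ : Set (Subgroup H)} (h : Fam p W 𝒟) (hsub : ℰ ⊆ 𝒟) : Fam p W ℰ :=
  ⟨fun A hA => h.1 A (hsub hA), fun A hA B hB => h.2 A (hsub hA) B (hsub hB)⟩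

theorem fam_single {A : Subgroup H} (hA : Atom p W A) : Fam p W {A} := by
  refine ⟨?_, ?_⟩
  · rintro B rfl; exact hA
  · rintro B rfl C rfl; exact hA.comm

theorem fam_pair {A B : Subgroup H} (hA : Atom p W A) (hB : Atom p W B) (h : Comm A B) :
    Fam p W {A, B} := by
  refine ⟨?_, ?_⟩
  · rintro C (rfl | rfl)
    exacts [hA, hB]
  · rintro C (rfl | rfl) D (rfl | rfl)
    exacts [hA.comm, h, h.symm, hB.comm]

theorem Sep.conj {𝒟 : Set (Subgroup H)} {A : Subgroup H} {x : H} (h : Sep W 𝒟 A x) (g : H) :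
    Sep W (cjS g '' 𝒟) (cjS g A) (g * x * g⁻¹) := by
  have hc : cjS (g * x * g⁻¹) (cjS g A) = cjS g (cjS x A) := by
    rw [cjS_cjS, cjS_cjS, inv_mul_cancel_right]
  refine ⟨⟨A, h.amem, rfl⟩, ?_, ?_, ?_, ?_⟩
  · rw [hc, show cjS g A ⊔ cjS g (cjS x A) = cjS g (A ⊔ cjS x A) from (Subgroup.map_sup _ _ _).symm]
    exact conj_mem_cjS h.mem
  · refine eq_top_iff.2 fun w _ => ?_
    obtain ⟨c, hc', d, hd, e⟩ :=
      AddSubgroup.mem_sup.1 (h.sup ▸ AddSubgroup.mem_top (g⁻¹ • w))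
    refine AddSubgroup.mem_sup.2 ⟨g • c, ?_, g • d, ?_, ?_⟩
    · rw [mem_fixW_cjS, inv_smul_smul]; exact hc'
    · rw [hc, mem_fixW_cjS, inv_smul_smul]; exact hd
    · rw [← smul_add, e, smul_inv_smul]
  · rintro _ ⟨B, hB, rfl⟩ hne b hb w
    rw [hc, mem_fixW_cjS]
    have h1 := h.fix B hB (fun e => hne (by rw [e])) _ (mem_cjS.1 hb) (g⁻¹ • w)
    rwa [mul_smul, mul_smul, smul_inv_smul, ← smul_sub] at h1
  · intro a ha w hw
    rw [hc, mem_fixW_cjS, smul_sub] at hw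
    rcases h.reg _ (mem_cjS.1 ha) (g⁻¹ • w) (by rwa [mul_smul, mul_smul, smul_inv_smul]) with e | e
    · left
      calc a = g * (g⁻¹ * a * g) * g⁻¹ := by group
        _ = 1 := by rw [e]; group
    · right; rwa [mem_fixW_cjS]

/-- An element of a separated member times elements of the others fixes only what it fixes. -/
theorem fix_of_sep {𝒟 : Set (Subgroup H)} {A : Subgroup H} {g : H} (hF : Fam p W 𝒟)
    (hs : Sep W 𝒟 A g) {a r : H} (ha : a ∈ A) (hr : r ∈ sSup (𝒟 \ {A})) {w : W}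
    (hw : (a * r) • w = w) : a • w = w := by
  have hcomm : a * r = r * a :=
    comm_sSup (fun B hB => hF.2 A hs.amem B hB.1) a ha r hr
  have hle : sSup (𝒟 \ {A}) ≤ into (fixW W (cjS g A)) :=
    sSup_le fun B hB b hb w => hs.fix B hB.1 hB.2 b hb w
  have h1 := neg_mem (hle hr (a • w))
  rw [← mul_smul, ← hcomm, hw, neg_sub] at h1
  rcases hs.reg a ha w h1 with e | e
  · rw [e, one_smul]
  · exact e a ha

/-- A nontrivial element of a separated member has the same fixed points. -/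
theorem fix_of_sep_single {A : Subgroup H} (hs : HasSep W ({A} : Set (Subgroup H))) {a : H}
    (ha : a ∈ A) (ha1 : a ≠ 1) {w : W} (hw : a • w = w) : w ∈ fixW W A := by
  obtain ⟨B, g, hs⟩ := hs
  obtain rfl : B = A := hs.amem
  exact (hs.reg a ha w (by rw [hw, sub_self]; exact zero_mem _)).resolve_left ha1

/-- A product from two commuting atoms fixes only what the factors fix. -/
theorem fix_pair {A B : Subgroup H} (hA : Atom p W A) (hB : Atom p W B) (h : Comm A B)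
    (hne : A ≠ B) (hs : HasSep W ({A, B} : Set (Subgroup H))) {a b : H} (ha : a ∈ A) (hb : b ∈ B)
    {w : W} (hw : (a * b) • w = w) : a • w = w ∧ b • w = w := by
  have hF := fam_pair hA hB h
  have hc := h a ha b hb
  obtain ⟨C, g, hs⟩ := hs
  rcases hs.amem with e | e
  · subst e
    have h1 := fix_of_sep hF hs ha (le_sSup (s := {C, B} \ {C})
      ⟨Set.mem_insert_of_mem _ rfl, fun e => hne e.symm⟩ hb) hw
    refine ⟨h1, ?_⟩
    rw [hc, mul_smul, h1] at hw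
    exact hw
  · rw [Set.mem_singleton_iff] at e
    subst e
    have h1 := fix_of_sep hF hs hb (le_sSup (s := {A, C} \ {C})
      ⟨Set.mem_insert _ _, hne⟩ ha) (by rwa [← hc])
    refine ⟨?_, h1⟩
    rw [mul_smul, h1] at hw
    exact hw

variable [Finite H] [Finite W] [Fact p.Prime] {T : Sylow p H} {M X P : Subgroup H}

theorem quad_sSup (hns : NS (H := H) p W) (hpW : ∀ w : W, p • w = 0) {𝒟 : Set (Subgroup H)}
    (hF : Fam p W 𝒟) : Quad W (sSup 𝒟) := by
  have hle : sSup 𝒟 ≤ into (fixW W (sSup 𝒟)) := sSup_le fun B hB b hb w =>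
    fixW_sSup fun A hA => by
      by_cases e : A = B
      · subst e; exact (hF.1 A hA).quad hns hpW b hb w
      · exact (hF.1 A hA).comm_fix hns (hF.1 B hB) (hF.2 A hA B hB) e hb w
  exact fun x hx w => hle hx w

/-- A quadratic exact subgroup all whose proper overgroups lie in `M` acts regularly. -/
theorem regular_of_only (h : PMin p W T M) (hO : Cfsg.pCore p H = ⊥) {R : Subgroup H}
    (hR : Ex p W R) (hne : R ≠ ⊥) (hRM : R ≤ M) (honly : OnlyIn R M) (hq : Quad W R) {g : H}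
    (hg : g ∉ M) :
    fixW W R ⊔ fixW W (cjS g R) = ⊤ ∧
      ∀ a ∈ R, ∀ w : W, a • w - w ∈ fixW W (cjS g R) → a = 1 ∨ w ∈ fixW W R := by
  set C := fixW W R with hC
  set C' := fixW W (cjS g R) with hC'
  have htop := h.sup_eq_top hO hR.pgroup hne hRM honly hg
  obtain ⟨w₀, hw₀, hw₀C⟩ := h.exists_moved hO hR.pgroup hne hRM honly hq hg
  have hfix : ∀ x : W, x ∈ C → x ∈ C' → ∀ k : H, k • x = x := fun x hx hx' =>
    NoStrict.fixed_of_sup htop hx hx'
  have hinj : Function.Injective (fun x : R × ↥(C ⊓ C') =>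
      (⟨(x.1 : H) • w₀ - w₀ + (x.2 : W), C.add_mem (hq _ x.1.2 w₀) x.2.2.1⟩ : C)) := by
    rintro ⟨⟨a, ha⟩, z⟩ ⟨⟨b, hb⟩, z'⟩ he
    have he' : a • w₀ - w₀ + (z : W) = b • w₀ - w₀ + (z' : W) := congrArg Subtype.val he
    have h1 : (b⁻¹ * a) • w₀ - w₀ = ((z' - z : ↥(C ⊓ C')) : W) := by
      have h0 : a • w₀ = b • w₀ + (((z' - z : ↥(C ⊓ C')) : W)) := by
        rw [AddSubgroupClass.coe_sub]
        calc a • w₀ = (a • w₀ - w₀ + (z : W)) + (w₀ - (z : W)) := by abel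
          _ = (b • w₀ - w₀ + (z' : W)) + (w₀ - (z : W)) := by rw [he']
          _ = _ := by abel
      rw [mul_smul, h0, smul_add, inv_smul_smul, hfix _ (z' - z).2.1 (z' - z).2.2]
      abel
    have h2 : b⁻¹ * a = 1 := h.eq_one hO hR.pgroup hne hRM honly hq hg hw₀ hw₀C
      (R.mul_mem (R.inv_mem hb) ha) fun k => by rw [h1]; exact hfix _ (z' - z).2.1 (z' - z).2.2 k
    obtain rfl : b = a := inv_mul_eq_one.1 h2
    obtain rfl : z = z' := Subtype.ext (add_left_cancel he')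
    rfl
  have h1 := Nat.card_le_card_of_injective _ hinj
  rw [Nat.card_prod] at h1
  have h2 := card_sup_mul_inf C C'
  rw [show Nat.card C' = Nat.card C from card_fixW_cjS g R] at h2
  have hsup : C ⊔ C' = ⊤ := by
    refine eq_of_le_of_card_le le_top ?_
    rw [AddSubgroup.card_top]
    refine Nat.le_of_mul_le_mul_right ?_ (Nat.card_pos (α := ↥(C ⊓ C')))
    rw [← h2, ← hR.eq (PMin.ns h hO)]
    calc Nat.card R * Nat.card C * Nat.card ↥(C ⊓ C')
        = Nat.card R * Nat.card ↥(C ⊓ C') * Nat.card C := by ring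
      _ ≤ _ := Nat.mul_le_mul_right _ h1
  refine ⟨hsup, fun a ha w hw => ?_⟩
  obtain ⟨c, hc, c', hc', rfl⟩ := mem_sup_cases hsup w
  by_cases hcC : c' ∈ C
  · exact Or.inr (add_mem hc hcC)
  left
  have e : a • c' - c' = a • (c + c') - (c + c') := by rw [smul_add, hc a ha]; abel
  refine h.eq_one hO hR.pgroup hne hRM honly hq hg hc' hcC ha fun k => ?_
  exact hfix _ (hq a ha c') (by rw [e]; exact hw) k

/-- Commuting atoms outside `Q` with the same image coincide. -/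
theorem Loc.collision (hL : Loc p M X P) (h : PMin p W T M) (hns : NS (H := H) p W)
    {A B : Subgroup H} (hA : Atom p W A) (hB : Atom p W B) (hAB : Comm A B) (hAP : A ≤ P)
    (hBP : B ≤ P) (hAQ : ¬ A ≤ coreH p X) (hBQ : ¬ B ≤ coreH p X)
    (himg : img p X B ≤ img p X A) (hs1 : HasSep W ({A} : Set (Subgroup H)))
    (hs2 : ∀ C, Atom p W C → C ≤ coreH p X → Comm A C → HasSep W ({A, C} : Set (Subgroup H))) :
    A = B := by
  by_contra hne
  have hA0 := (hL.atom_img h hns hA hAP hAQ).1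
  have hB0 := (hL.atom_img h hns hB hBP hBQ).1
  have hAB0 := hA.inf_eq_bot hns hB hAB hne
  obtain ⟨hE, -, -⟩ := hA.toEx.lattice hns hB.toEx hAB
  obtain ⟨hE', -, -⟩ := hL.ex_section h hns hE (sup_le hAP hBP)
  have hne' : (A ⊔ B) ⊓ coreH p X ≠ ⊥ := by
    intro e
    refine hB.ne ((Subgroup.eq_bot_iff_forall B).2 fun b hb => ?_)
    obtain ⟨x, hx, hxe⟩ :=
      mem_img.1 (himg (mk_mem_img (x := (⟨b, (hBP.trans hL.le) hb⟩ : X)) hb))
    have h1 : (x : H)⁻¹ * b ∈ (A ⊔ B) ⊓ coreH p X := by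
      refine ⟨(A ⊔ B).mul_mem ((A ⊔ B).inv_mem (Subgroup.mem_sup_left hx))
      (Subgroup.mem_sup_right hb), ?_⟩
      exact ⟨x⁻¹ * ⟨b, _⟩, QuotientGroup.eq.1 hxe, rfl⟩
    rw [e, Subgroup.mem_bot, inv_mul_eq_one] at h1
    rw [← Subgroup.mem_bot, ← hAB0]
    exact ⟨h1 ▸ hx, hb⟩
  obtain ⟨C, hC, hCa⟩ := hE'.exists_atom hne'
  have hcAB : Comm A (A ⊔ B) := (Comm.sup hA.comm hAB.symm).symm
  have hAC : Comm A C := hcAB.mono le_rfl (hC.trans inf_le_left)
  have hBC : Comm B C := ((Comm.sup hAB hB.comm).symm).mono le_rfl (hC.trans inf_le_left)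
  have hCA : A ≠ C := fun e => hAQ (e ▸ hC.trans inf_le_right)
  -- `B` lies in `A ⊔ C`
  obtain ⟨c, hc, hc1⟩ := C.ne_bot_iff_exists_ne_one.1 hCa.ne |> fun ⟨⟨c, hc⟩, h1⟩ =>
    (⟨c, hc, fun e => h1 (Subtype.ext e)⟩ : ∃ c, c ∈ C ∧ c ≠ 1)
  have hmem : c ∈ A ⊔ B := (hC hc).1
  rw [← SetLike.mem_coe, Subgroup.coe_mul_of_left_le_normalizer_right A B hAB.le_normalizer] at hmem
  obtain ⟨a, ha, b, hb, rfl⟩ := hmem
  obtain ⟨-, hi, -⟩ := hB.toEx.lattice hns (hA.toEx.lattice hns hCa.toEx hAC).1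
    (Comm.sup hAB hBC.symm).symm
  have hBle : B ≤ A ⊔ C := by
    rcases hB.min _ inf_le_left hi with e | e
    · exfalso
      have h1 : b ∈ B ⊓ (A ⊔ C) := ⟨hb, by
        have := mul_mem (inv_mem (Subgroup.mem_sup_left (T := C) ha)) (Subgroup.mem_sup_right hc)
        rwa [inv_mul_cancel_left] at this⟩
      rw [e, Subgroup.mem_bot] at h1
      subst h1
      simp only [mul_one] at hc hc1
      refine hc1 (Subgroup.mem_bot.1 ?_)
      rw [← hA0]
      exact ⟨ha, (hC hc).2⟩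
    · exact inf_eq_left.1 e
  have hle : fixW W B ≤ fixW W A := by
    obtain ⟨b', hb', hb1⟩ := B.ne_bot_iff_exists_ne_one.1 hB.ne |> fun ⟨⟨c, hc⟩, h1⟩ =>
      (⟨c, hc, fun e => h1 (Subtype.ext e)⟩ : ∃ c, c ∈ B ∧ c ≠ 1)
    have hmem := hBle hb'
    rw [← SetLike.mem_coe,
      Subgroup.coe_mul_of_left_le_normalizer_right A C hAC.le_normalizer] at hmem
    obtain ⟨a', ha', c', hc', rfl⟩ := hmem
    intro w hw
    refine fix_of_sep_single hs1 ha' (fun e => hb1 ?_)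
      (fix_pair hA hCa hAC hCA (hs2 C hCa (hC.trans inf_le_right) hAC) ha' hc' (hw _ hb')).1
    subst e
    simp only [one_mul] at hb' ⊢
    refine Subgroup.mem_bot.1 ?_
    rw [← hB0]
    exact ⟨hb', (hC hc').2⟩
  have := hA.sup_top hns hB hAB hne
  rw [sup_eq_left.2 hle] at this
  exact hA.ne (eq_bot_of_fixW_top hns hA.pgroup fun w => this ▸ AddSubgroup.mem_top w)

/-- Separation of a family with a member outside `Q` and distinct images. -/
theorem Loc.hasSep_of_inj (hL : Loc p M X P) (h : PMin p W T M) (hns : NS (H := H) p W)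
    (hpW : ∀ w : W, p • w = 0)
    (hih : AllSep (X ⧸ Cfsg.pCore p X) p (fixQ p W X)) {𝒟 : Set (Subgroup H)} (hF : Fam p W 𝒟)
    (hP : ∀ A ∈ 𝒟, A ≤ P) (hout : ∃ A ∈ 𝒟, ¬ A ≤ coreH p X)
    (hinj : ∀ A ∈ 𝒟, ∀ B ∈ 𝒟, ¬ A ≤ coreH p X → ¬ B ≤ coreH p X →
      img p X A = img p X B → A = B) : HasSep W 𝒟 := by
  classical
  set 𝒟o : Set (Subgroup H) := {A ∈ 𝒟 | ¬ A ≤ coreH p X} with h𝒟o
  have hF' : Fam p (fixQ p W X) (img p X '' 𝒟o) := by
    refine ⟨?_, ?_⟩
    · rintro _ ⟨A, ⟨hA, hAQ⟩, rfl⟩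
      exact (hL.atom_img h hns (hF.1 A hA) (hP A hA) hAQ).2.2
    · rintro _ ⟨A, ⟨hA, -⟩, rfl⟩ _ ⟨B, ⟨hB, -⟩, rfl⟩
      exact comm_img (hF.2 A hA B hB)
  obtain ⟨A₁, hA₁⟩ := hout
  obtain ⟨A', g', hsep⟩ := hih _ (Set.Nonempty.image _ ⟨A₁, hA₁⟩) hF'
  obtain ⟨A, ⟨hAD, hAQ⟩, rfl⟩ := hsep.amem
  obtain ⟨hA0, hAtop, -⟩ := hL.atom_img h hns (hF.1 A hAD) (hP A hAD) hAQ
  have hAX : A ≤ X := (hP A hAD).trans hL.le
  have hcX : ∀ x : X, cjS (x : H) A ≤ X := by
    rintro x _ ⟨a, ha, rfl⟩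
    exact X.mul_mem (X.mul_mem x.2 (hAX ha)) (X.inv_mem x.2)
  -- a lift inside the group it generates
  obtain ⟨x₀, hx₀, hmin⟩ := Set.exists_min_image {x : X | QuotientGroup.mk x = g'}
    (fun x : X => Nat.card ↥(A ⊔ cjS (x : H) A)) (Set.toFinite _) (QuotientGroup.mk_surjective g')
  have hx₀' : (QuotientGroup.mk x₀ : X ⧸ Cfsg.pCore p X) = g' := hx₀
  obtain ⟨x, hxL, hxg⟩ : ∃ x : X, (x : H) ∈ A ⊔ cjS (x₀ : H) A ∧
      (QuotientGroup.mk x : X ⧸ Cfsg.pCore p X) = g' := by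
    refine mem_img.1 ((sup_le ?_ ?_ : img p X A ⊔ cjS g' (img p X A) ≤
      img p X (A ⊔ cjS (x₀ : H) A)) hsep.mem)
    · exact Subgroup.map_mono fun z hz => Subgroup.mem_sup_left (S := A) hz
    · rw [← hx₀', ← img_cjS hAX]
      exact Subgroup.map_mono fun z hz => Subgroup.mem_sup_right (T := cjS (x₀ : H) A) hz
  have hle : A ⊔ cjS (x : H) A ≤ A ⊔ cjS (x₀ : H) A := by
    refine sup_le le_sup_left ?_
    rintro _ ⟨a, ha, rfl⟩
    exact mul_mem (mul_mem hxL (Subgroup.mem_sup_left ha)) (inv_mem hxL)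
  rw [← Subgroup.eq_of_le_of_card_ge hle (hmin x hxg)] at hxL
  subst hxg
  set A₂ := cjS (x : H) A with hA₂
  have hA₂X : A₂ ≤ X := hcX x
  have hfix : ∀ d : fixQ p W X, d ∈ fixW (fixQ p W X)
      (cjS (QuotientGroup.mk x) (img p X A)) → (d : W) ∈ fixW W A₂ := by
    intro d hd
    rw [← img_cjS hAX] at hd
    exact (mem_fix_img hA₂X).1 hd
  refine ⟨A, (x : H), hAD, hxL, ?_, ?_, ?_⟩
  · refine eq_top_iff.2 fun w _ => ?_
    obtain ⟨c, hc, w', hw', rfl⟩ := mem_sup_cases hAtop w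
    obtain ⟨d, hd, d', hd', e⟩ := mem_sup_cases hsep.sup ⟨w', hw'⟩
    have e' : (d : W) + (d' : W) = w' := congrArg Subtype.val e
    refine AddSubgroup.mem_sup.2
      ⟨c + (d : W), add_mem hc ((mem_fix_img hAX).1 hd), d', hfix _ hd', ?_⟩
    rw [add_assoc, e']
  · intro B hB hne b hb w
    by_cases hBQ : B ≤ coreH p X
    · -- `A^x` centralizes `B`
      have htop₂ : fixW W A₂ ⊔ fixQ p W X = ⊤ := by
        refine eq_top_iff.2 fun v _ => ?_
        obtain ⟨c, hc, w', hw', e⟩ := mem_sup_cases hAtop ((x : H)⁻¹ • v)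
        refine AddSubgroup.mem_sup.2 ⟨(x : H) • c, ?_, (x : H) • w', ?_, ?_⟩
        · rw [mem_fixW_cjS, inv_smul_smul]; exact hc
        · exact NoStrict.smul_mem_fixW (Cfsg.pCore p X) x hw'
        · rw [← smul_add, e, smul_inv_smul]
      have hQB : fixQ p W X ≤ fixW W B := fixQ_le_fixW hBQ
      have hQp : IsPGroup p (coreH p X) := hL.pgroup.to_le hL.coreH_le
      have hnorm : A₂ ≤ Subgroup.normalizer (B : Set H) := by
        intro y hy
        have hyX : y ∈ X := hA₂X hy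
        have hC : fixW W B ≤ fixW W (cjS y B) := by
          intro v hv
          obtain ⟨e, he, w', hw', rfl⟩ := mem_sup_cases htop₂ v
          have heB : e ∈ fixW W B := by
            have := sub_mem hv (hQB hw')
            rwa [add_sub_cancel_right] at this
          rw [mem_fixW_cjS, smul_add, he _ (inv_mem hy)]
          exact add_mem heB (hQB (NoStrict.smul_mem_fixW (Cfsg.pCore p X) (⟨y, hyX⟩⁻¹ : X) hw'))
        have hC' : fixW W B = fixW W (cjS y B) :=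
          eq_of_le_of_card_le hC (card_fixW_cjS y B).le
        have hBy : cjS y B ≤ coreH p X := by
          rintro _ ⟨c, hc, rfl⟩
          exact (Subgroup.mem_normalizer_iff.1 (le_normalizer_coreH X hyX) c).1 (hBQ hc)
        have hcomm : Comm B (cjS y B) := fun c hc d hd =>
          NS.commute_of_annihilate hns hQp (hBQ hc) (hBy hd)
            (fun v => (hC'.ge (((hF.1 B hB).conj y).quad hns hpW d hd v)) c hc)
            (fun v => (hC'.le ((hF.1 B hB).quad hns hpW c hc v)) d hd)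
        rw [Subgroup.mem_normalizer_iff_map_conj_eq]
        by_contra hne'
        have := (hF.1 B hB).sup_top hns ((hF.1 B hB).conj y) hcomm (Ne.symm hne')
        rw [← hC', sup_idem] at this
        exact (hF.1 B hB).ne
          (eq_bot_of_fixW_top hns (hF.1 B hB).pgroup fun v => this ▸ AddSubgroup.mem_top v)
      have hxN : (x : H) ∈ Subgroup.normalizer (B : Set H) :=
        sup_le (hF.2 A hAD B hB).le_normalizer hnorm hxL
      have hcomm : Comm A₂ B := by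
        rintro _ ⟨a, ha, rfl⟩ d hd
        have h1 := (Subgroup.mem_normalizer_iff''.1 hxN d).1 hd
        have h2 := hF.2 A hAD B hB a ha _ h1
        change (x : H) * a * (x : H)⁻¹ * d = d * ((x : H) * a * (x : H)⁻¹)
        calc (x : H) * a * (x : H)⁻¹ * d
            = (x : H) * (a * ((x : H)⁻¹ * d * x)) * (x : H)⁻¹ := by group
          _ = (x : H) * (((x : H)⁻¹ * d * x) * a) * (x : H)⁻¹ := by rw [h2]
          _ = _ := by group
      refine ((hF.1 A hAD).conj (x : H)).comm_fix hns (hF.1 B hB) hcomm (fun e => hAQ ?_) hb w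
      intro a ha
      have h1 : (x : H) * a * (x : H)⁻¹ ∈ coreH p X :=
        hBQ (e ▸ (conj_mem_cjS ha : _ ∈ cjS (x : H) A))
      exact (Subgroup.mem_normalizer_iff.1 (le_normalizer_coreH X x.2) a).2 h1
    · obtain ⟨c, hc, w', hw', rfl⟩ :=
        mem_sup_cases (hL.atom_img h hns (hF.1 B hB) (hP B hB) hBQ).2.1 w
      rw [smul_add, hc b hb, show c + b • w' - (c + w') = b • w' - w' by abel]
      exact hfix _ (hsep.fix (img p X B) ⟨B, ⟨hB, hBQ⟩, rfl⟩
        (fun e => hne (hinj B hB A hAD hBQ hAQ e)) _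
        (mk_mem_img (x := ⟨b, (hP B hB).trans hL.le hb⟩) hb) ⟨w', hw'⟩)
  · intro a ha w hw
    obtain ⟨c, hc, w', hw', rfl⟩ := mem_sup_cases hAtop w
    rw [smul_add, hc a ha, show c + a • w' - (c + w') = a • w' - w' by abel] at hw
    set d : fixQ p W X :=
      (QuotientGroup.mk (⟨a, hAX ha⟩ : X) : X ⧸ Cfsg.pCore p X) • (⟨w', hw'⟩ : fixQ p W X) -
        ⟨w', hw'⟩ with hd
    have h1 : d ∈ fixW (fixQ p W X) (cjS (QuotientGroup.mk x) (img p X A)) := by
      rw [← img_cjS hAX]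
      exact (mem_fix_img hA₂X).2 hw
    rcases hsep.reg _ (mk_mem_img (x := (⟨a, hAX ha⟩ : X)) ha) ⟨w', hw'⟩ h1 with e | e
    · left
      rw [← Subgroup.mem_bot, ← hA0]
      exact ⟨ha, mem_coreH.2 e⟩
    · right
      exact add_mem hc ((mem_fix_img hAX).1 e)

/-- Every family of commuting atoms has a separated member. -/
theorem allSep (h : PMin p W T M) (hO : Cfsg.pCore p H = ⊥) (hpW : ∀ w : W, p • w = 0) :
    AllSep H p W := by
  induction hn : Nat.card H using Nat.strong_induction_on generalizing H W T M with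
  | _ n ih =>
  subst hn
  have hns := PMin.ns h hO
  by_contra hcon
  simp only [AllSep, not_forall] at hcon
  obtain ⟨𝒟, hne, hF, hno⟩ := hcon
  let Φ : Subgroup H → Prop := fun R => ∃ 𝒟 : Set (Subgroup H), 𝒟.Nonempty ∧ Fam p W 𝒟 ∧
    R = sSup 𝒟 ∧ ¬ HasSep W 𝒟
  have hΦp : ∀ R, Φ R → IsPGroup p R := by
    rintro _ ⟨𝒟, -, hF, rfl, -⟩
    exact (ex_sSup hns (fun A hA => (hF.1 A hA).toEx) hF.2).pgroup
  have hΦne : ∀ R, Φ R → R ≠ ⊥ := by
    rintro _ ⟨𝒟, ⟨A, hA⟩, hF, rfl, -⟩ e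
    exact (hF.1 A hA).ne (le_bot_iff.1 (e ▸ le_sSup hA))
  have hΦconj : ∀ R g, Φ R → Φ (cjS g R) := by
    rintro _ g ⟨𝒟, hne, hF, rfl, hno⟩
    refine ⟨cjS g '' 𝒟, hne.image _, ⟨?_, ?_⟩, ?_, ?_⟩
    · rintro _ ⟨A, hA, rfl⟩; exact (hF.1 A hA).conj g
    · rintro _ ⟨A, hA, rfl⟩ _ ⟨B, hB, rfl⟩ _ ⟨a, ha, rfl⟩ _ ⟨b, hb, rfl⟩
      rw [← map_mul, ← map_mul, hF.2 A hA B hB a ha b hb]
    · rw [sSup_image]; exact (Subgroup.gc_map_comap _).l_sSup
    · rintro ⟨A, x, hs⟩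
      have h1 := hs.conj g⁻¹
      rw [Set.image_image] at h1
      simp only [cjS_cjS, inv_mul_cancel] at h1
      have h2 : (fun B : Subgroup H => cjS (1 : H) B) '' 𝒟 = 𝒟 := by
        rw [show (fun B : Subgroup H => cjS (1 : H) B) = id from funext fun B => by ext y; simp,
          Set.image_id]
      rw [h2] at h1
      exact hno ⟨_, _, h1⟩
  obtain ⟨S, hS⟩ := (hΦp _ ⟨𝒟, hne, hF, rfl, hno⟩).exists_le_sylow
  obtain ⟨g, hg⟩ := MulAction.exists_smul_eq H T S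
  set R := cjS g⁻¹ (sSup 𝒟) with hRdef
  have hΦR : Φ R := hΦconj _ _ ⟨𝒟, hne, hF, rfl, hno⟩
  have hRM : R ≤ M := by
    refine le_trans ?_ h.sylow_le
    intro y hy
    rw [hRdef, mem_cjS, inv_inv] at hy
    have h1 : g * y * g⁻¹ ∈ (S : Subgroup H) := hS hy
    rw [← hg] at h1
    have h2 : g * y * g⁻¹ ∈ cjS g (T : Subgroup H) := h1
    rw [mem_cjS] at h2
    rwa [show g⁻¹ * (g * y * g⁻¹) * g = y by group] at h2
  have honly : OnlyIn R M := by
    refine h.descend hO (Φ := Φ) hΦconj hΦp hΦne ?_ hΦR hRM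
    intro X P hX hXM hPX hPM hPp hdiv hsub R' hR' hR'P
    have hL : Loc p M X P := ⟨hX, hXM, hPX, hPM, hPp, hdiv, hsub⟩
    obtain ⟨T', M', h'⟩ := hL.pmin h
    have hih : AllSep (X ⧸ Cfsg.pCore p X) p (fixQ p W X) :=
      ih _ hL.card_lt h' (Cores.pCore_quotient_pCore (G := X) p)
        (fun w => Subtype.ext ((AddSubgroupClass.coe_nsmul w p).trans (hpW _))) rfl
    obtain ⟨𝒟', -, hF', rfl, hno'⟩ := hR'
    refine sSup_le fun A hA => ?_
    by_contra hAQ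
    have hP' : ∀ A ∈ 𝒟', A ≤ P := fun A hA => (le_sSup hA).trans hR'P
    refine hno' (hL.hasSep_of_inj h hns hpW hih hF' hP' ⟨A, hA, hAQ⟩ ?_)
    intro B hB C hC hBQ hCQ e
    refine hL.collision h hns (hF'.1 B hB) (hF'.1 C hC) (hF'.2 B hB C hC) (hP' B hB) (hP' C hC)
      hBQ hCQ e.ge ?_ ?_
    · refine hL.hasSep_of_inj h hns hpW hih (fam_single (hF'.1 B hB)) ?_ ⟨B, rfl, hBQ⟩ ?_
      · rintro D rfl; exact hP' _ hB
      · rintro D rfl E rfl - - -; rfl
    · intro D hD hDQ hBD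
      refine hL.hasSep_of_inj h hns hpW hih (fam_pair (hF'.1 B hB) hD hBD) ?_
        ⟨B, Set.mem_insert _ _, hBQ⟩ ?_
      · rintro E (rfl | rfl)
        exacts [hP' _ hB, hDQ.trans hL.coreH_le]
      · rintro E (rfl | rfl) F (rfl | rfl) hE hF'' -
        exacts [rfl, absurd hDQ hF'', absurd hDQ hE, rfl]
  obtain ⟨𝒟₁, ⟨A, hA⟩, hF₁, e, hno₁⟩ := hΦR
  have hRex : Ex p W R := e ▸ ex_sSup hns (fun A hA => (hF₁.1 A hA).toEx) hF₁.2
  have hq : Quad W R := e ▸ quad_sSup hns hpW hF₁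
  have hRne : R ≠ ⊥ := fun e' =>
    (hF₁.1 A hA).ne (le_bot_iff.1 (e' ▸ e.symm ▸ le_sSup hA))
  obtain ⟨x, -, hx⟩ := SetLike.exists_of_lt (lt_top_iff_ne_top.2 h.ne_top)
  obtain ⟨hsup, hreg⟩ := regular_of_only h hO hRex hRne hRM honly hq hx
  have hone : ∀ B ∈ 𝒟₁, B = A := by
    intro B hB
    by_contra hne'
    obtain ⟨⟨b, hb⟩, hb1⟩ := B.ne_bot_iff_exists_ne_one.1 (hF₁.1 B hB).ne
    have hle : fixW W B ≤ fixW W A := fun w hw => fixW_anti (e ▸ le_sSup hA)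
      ((hreg b (e ▸ le_sSup hB hb) w (by rw [hw b hb, sub_self]; exact zero_mem _)).resolve_left
        fun e' => hb1 (Subtype.ext e'))
    have := (hF₁.1 A hA).sup_top hns (hF₁.1 B hB) (hF₁.2 A hA B hB) (Ne.symm hne')
    rw [sup_eq_left.2 hle] at this
    exact (hF₁.1 A hA).ne
      (eq_bot_of_fixW_top hns (hF₁.1 A hA).pgroup fun w => this ▸ AddSubgroup.mem_top w)
  have hRA : R = A := by
    rw [e]
    exact le_antisymm (sSup_le fun B hB => (hone B hB).le) (le_sSup hA)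
  rw [hRA] at hsup hreg hRex hRne hRM honly
  refine hno₁ ⟨A, x, hA, ?_, hsup, fun B hB hne' => absurd (hone B hB) hne', hreg⟩
  rw [h.sup_eq_top hO hRex.pgroup hRne hRM honly hx]
  exact Subgroup.mem_top x

/-- The factors from different members fix whatever the product fixes. -/
theorem fam_fix (hsep : AllSep H p W) {𝒟 : Set (Subgroup H)} (hF : Fam p W 𝒟) {A : Subgroup H}
    (hA : A ∈ 𝒟) {a r : H} (ha : a ∈ A) (hr : r ∈ sSup (𝒟 \ {A})) {w : W}
    (hw : (a * r) • w = w) : a • w = w := by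
  induction hn : 𝒟.ncard using Nat.strong_induction_on generalizing 𝒟 r with
  | _ n ih =>
  obtain ⟨B, g, hs⟩ := hsep 𝒟 ⟨A, hA⟩ hF
  by_cases hBA : B = A
  · subst hBA
    exact fix_of_sep hF hs ha hr hw
  have hBmem : B ∈ 𝒟 \ {A} := ⟨hs.amem, hBA⟩
  have hset : insert B ((𝒟 \ {B}) \ {A}) = 𝒟 \ {A} := by
    ext C
    simp only [Set.mem_insert_iff, Set.mem_sdiff, Set.mem_singleton_iff]
    constructor
    · rintro (rfl | ⟨⟨h1, -⟩, h2⟩)
      exacts [hBmem, ⟨h1, h2⟩]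
    · rintro ⟨h1, h2⟩
      by_cases h3 : C = B
      exacts [Or.inl h3, Or.inr ⟨⟨h1, h3⟩, h2⟩]
  rw [← hset, sSup_insert] at hr
  have hc : Comm B (sSup ((𝒟 \ {B}) \ {A})) :=
    comm_sSup fun C hC => hF.2 B hs.amem C hC.1.1
  rw [← SetLike.mem_coe, Subgroup.coe_mul_of_left_le_normalizer_right _ _ hc.le_normalizer] at hr
  obtain ⟨b, hb, r', hr', rfl⟩ := hr
  have hab : a * (b * r') = b * (a * r') := by
    rw [← mul_assoc, hF.2 A hA B hs.amem a ha b hb, mul_assoc]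
  rw [hab] at hw
  have hmem : a * r' ∈ sSup (𝒟 \ {B}) :=
    mul_mem (le_sSup (s := 𝒟 \ {B}) ⟨hA, fun e => hBA e.symm⟩ ha)
      ((sSup_le_sSup Set.sdiff_subset : sSup ((𝒟 \ {B}) \ {A}) ≤ sSup (𝒟 \ {B})) hr')
  have hbw := fix_of_sep hF hs hb hmem hw
  have hw' : (a * r') • w = w := by
    rw [mul_smul] at hw
    exact smul_left_cancel b (hw.trans hbw.symm)
  exact ih _ (hn ▸ Set.ncard_sdiff_singleton_lt_of_mem hs.amem (Set.toFinite _))
    (hF.mono Set.sdiff_subset) ⟨hA, fun e => hBA e.symm⟩ hr' hw' rfl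

/-- The fixed points of an element are those of the members it involves. -/
theorem exists_support (hsep : AllSep H p W) {𝒟 : Set (Subgroup H)} (hF : Fam p W 𝒟) {x : H}
    (hx : x ∈ sSup 𝒟) :
    ∃ 𝒮 ⊆ 𝒟, x ∈ sSup 𝒮 ∧ ∀ w : W, x • w = w → w ∈ fixW W (sSup 𝒮) := by
  obtain ⟨𝒮, ⟨hS, hxS⟩, hmin⟩ := Set.exists_min_image
    {𝒮 : Set (Subgroup H) | 𝒮 ⊆ 𝒟 ∧ x ∈ sSup 𝒮} (fun 𝒮 => 𝒮.ncard) (Set.toFinite _)
    ⟨𝒟, subset_rfl, hx⟩
  refine ⟨𝒮, hS, hxS, fun w hw => fixW_sSup fun A hA => ?_⟩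
  have hc : Comm A (sSup (𝒮 \ {A})) := comm_sSup fun C hC => hF.2 A (hS hA) C (hS hC.1)
  have h0 := hxS
  rw [show 𝒮 = insert A (𝒮 \ {A}) by rw [Set.insert_sdiff_singleton, Set.insert_eq_of_mem hA],
    sSup_insert, ← SetLike.mem_coe,
    Subgroup.coe_mul_of_left_le_normalizer_right _ _ hc.le_normalizer] at h0
  obtain ⟨a, ha, r, hr, rfl⟩ := h0
  refine fix_of_sep_single (hsep _ ⟨A, rfl⟩ (fam_single (hF.1 A (hS hA)))) ha ?_
    (fam_fix hsep (hF.mono hS) hA ha hr hw)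
  rintro rfl
  have h1 := hmin (𝒮 \ {A}) ⟨Set.sdiff_subset.trans hS, by simpa using hr⟩
  have h2 := Set.ncard_sdiff_singleton_lt_of_mem hA (Set.toFinite 𝒮)
  omega

end Cfsg.Agent.Lib.NoStrictAtoms69
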