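import Cfsg.Agent.Lib.NoStrictAtoms69.Perm

/-!
# Fixed points of atoms inside a quadratic exact subgroup

Every nontrivial quadratic exact subgroup `R` contains an atom `A` such that `C(A)` is generated by
translates of `C(R)` under elements of the normal closure of `R` normalising `A`.
-/

set_option autoImplicit false
set_option linter.unusedSectionVars false

namespace Cfsg.Agent.Lib.NoStrictAtoms69

open Cfsg.Agent.Lib.RankOneFF (fixW mem_fixW cjS mem_cjS conj_mem_cjS card_cjS mem_fixW_cjS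
  card_fixW_cjS)
open Cfsg.Agent.Lib.NoStrict (PMin OnlyIn quotAct cjS_cjS)

attribute [local instance] quotAct

universe u v

variable {H : Type u} [Group H] [Finite H] {W : Type v} [AddCommGroup W] [DistribMulAction H W]
  [Finite W] {p : ℕ}

/-- The group generated by the admissible translates of `C(R)`. -/
def span (W : Type*) [AddCommGroup W] [DistribMulAction H W] (R A : Subgroup H) : AddSubgroup W :=
  AddSubgroup.closure {v | ∃ x ∈ Subgroup.normalClosure (R : Set H), cjS x A = A ∧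
    ∃ c ∈ fixW W R, v = x • c}

/-- An atom in `R` spanned by translates of `C(R)`. -/
structure Good (p : ℕ) (W : Type*) [AddCommGroup W] [DistribMulAction H W] [Finite W] (R A : Subgroup H) :
    Prop where
  atom : Atom p W A
  le : A ≤ R
  spanned : fixW W A ≤ span W R A

theorem Good.conj {R A : Subgroup H} (h : Good p W R A) (g : H) :
    Good p W (cjS g R) (cjS g A) where
  atom := h.atom.conj g
  le := Subgroup.map_mono h.le
  spanned := by
    intro w hw
    have hle : span W R A ≤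
        (span W (cjS g R) (cjS g A)).comap (DistribSMul.toAddMonoidHom W g) := by
      refine (AddSubgroup.closure_le _).2 ?_
      rintro _ ⟨x, hx, hxA, c, hc, rfl⟩
      refine AddSubgroup.subset_closure ⟨g * x * g⁻¹, ?_, ?_, g • c, ?_, ?_⟩
      · have hn : (Subgroup.normalClosure (cjS g R : Set H)).Normal := inferInstance
        have hsub : (R : Set H) ⊆ Subgroup.normalClosure (cjS g R : Set H) := fun r hr => by
          have h1 := hn.conj_mem' _ (Subgroup.subset_normalClosure
            (conj_mem_cjS (g := g) hr)) g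
          rwa [show g⁻¹ * (g * r * g⁻¹) * g = r by group] at h1
        exact hn.conj_mem x (Subgroup.normalClosure_le_normal hsub hx) g
      · rw [cjS_cjS, inv_mul_cancel_right, ← cjS_cjS, hxA]
      · rw [mem_fixW_cjS, inv_smul_smul]; exact hc
      · show g • x • c = _
        rw [mul_smul, mul_smul, inv_smul_smul]
    have h1 : g • (g⁻¹ • w) ∈ span W (cjS g R) (cjS g A) :=
      hle (h.spanned (mem_fixW_cjS.1 hw))
    rwa [smul_inv_smul] at h1

variable [Fact p.Prime] {T : Sylow p H} {M X P : Subgroup H}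

/-- `X ⧸ Q` translates `C(R)` over `C_W(Q)`. -/
theorem Loc.fixQ_le (hL : Loc p M X P) (h : PMin p W T M) (hpW : ∀ w : W, p • w = 0)
    {R : Subgroup H} (hRP : R ≤ P) {A' : Subgroup (X ⧸ Cfsg.pCore p X)}
    (hA' : Good p (fixQ p W X) (img p X R) A') :
    fixQ p W X ≤ AddSubgroup.closure
      {v | ∃ y ∈ Subgroup.closure {z | ∃ x ∈ X, ∃ r ∈ R, x * r * x⁻¹ = z},
        ∃ c ∈ fixW W R, v = y • c} := by
  set Y := Subgroup.closure {z | ∃ x ∈ X, ∃ r ∈ R, x * r * x⁻¹ = z} with hY
  set S := AddSubgroup.closure {v | ∃ y ∈ Y, ∃ c ∈ fixW W R, v = y • c} with hS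
  set N := Subgroup.normalClosure (img p X R : Set (X ⧸ Cfsg.pCore p X)) with hN
  have hNY : N ≤ img p X Y := by
    refine (Subgroup.closure_le _).2 fun z hz => ?_
    obtain ⟨r', hr', hc⟩ := Group.mem_conjugatesOfSet_iff.1 hz
    obtain ⟨c, rfl⟩ := isConj_iff.1 hc
    obtain ⟨x, rfl⟩ := QuotientGroup.mk_surjective c
    obtain ⟨r, hr, rfl⟩ := mem_img.1 hr'
    exact mk_mem_img (x := x * r * x⁻¹)
      (Subgroup.subset_closure ⟨(x : H), x.2, (r : H), hr, rfl⟩)
  let S' : AddSubgroup (fixQ p W X) :=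
    { carrier := {v | ∀ z ∈ N, ((z • v : fixQ p W X) : W) ∈ S}
      zero_mem' := fun z _ => by rw [smul_zero]; exact S.zero_mem
      add_mem' := fun {a b} ha hb z hz => by
        rw [smul_add]; exact S.add_mem (ha z hz) (hb z hz)
      neg_mem' := fun {a} ha z hz => by rw [smul_neg]; exact S.neg_mem (ha z hz) }
  have hgen : fixW (fixQ p W X) A' ≤ S' := hA'.spanned.trans <| (AddSubgroup.closure_le _).2 (by
    rintro _ ⟨x, hx, -, c, hc, rfl⟩ z hz
    obtain ⟨y, hy, hye⟩ := mem_img.1 (hNY (N.mul_mem hz hx))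
    rw [← mul_smul, ← hye, coe_mk_smul]
    exact AddSubgroup.subset_closure
      ⟨(y : H), hy, _, (mem_fix_img (hRP.trans hL.le)).1 hc, rfl⟩)
  obtain ⟨T', M', h'⟩ := hL.pmin h
  have hsep := allSep h' (Cores.pCore_quotient_pCore (G := X) p)
    (fun w => Subtype.ext ((AddSubgroupClass.coe_nsmul w p).trans (hpW _)))
  obtain ⟨B, g, hs⟩ := hsep {A'} ⟨A', rfl⟩ (fam_single hA'.atom)
  obtain rfl : B = A' := hs.amem
  have hgN : g ∈ N := by
    have hBN : B ≤ N := hA'.le.trans Subgroup.le_normalClosure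
    refine (sup_le hBN ?_ : B ⊔ cjS g B ≤ N) hs.mem
    rintro _ ⟨b, hb, rfl⟩
    exact (Subgroup.normalClosure_normal).conj_mem b (hBN hb) g
  intro w hw
  obtain ⟨d, hd, d', hd', e⟩ := mem_sup_cases hs.sup ⟨w, hw⟩
  have e' : (d : W) + (d' : W) = w := congrArg Subtype.val e
  rw [← e']
  refine S.add_mem ?_ ?_
  · have := hgen hd 1 N.one_mem
    rwa [one_smul] at this
  · have := hgen (mem_fixW_cjS.1 hd') g hgN
    rwa [smul_inv_smul] at this

/-- Every nontrivial quadratic exact subgroup has a spanned atom. -/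
theorem exists_good (h : PMin p W T M) (hO : Cfsg.pCore p H = ⊥) (hpW : ∀ w : W, p • w = 0)
    {R : Subgroup H} (hR : Ex p W R) (hq : Quad W R) (hne : R ≠ ⊥) : ∃ A, Good p W R A := by
  induction hn : Nat.card H using Nat.strong_induction_on generalizing H W T M R with
  | _ n ih =>
  subst hn
  by_contra hfail
  have hns := PMin.ns h hO
  have hsep := allSep h hO hpW
  let Ψ : Subgroup H → Prop := fun R => Ex p W R ∧ Quad W R ∧ R ≠ ⊥ ∧ ¬ ∃ A, Good p W R A
  obtain ⟨R₀, hR₀, hmin₀⟩ := Set.exists_min_image {R : Subgroup H | Ψ R}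
    (fun R => Nat.card R) (Set.toFinite _) ⟨R, hR, hq, hne, hfail⟩
  let Φ : Subgroup H → Prop := fun R => Ψ R ∧ Nat.card R = Nat.card R₀
  have hΦconj : ∀ R g, Φ R → Φ (cjS g R) := by
    rintro R g ⟨⟨h1, h2, h3, h4⟩, h5⟩
    refine ⟨⟨h1.conj g, h2.conj g, fun e => h3
      ((Subgroup.map_eq_bot_iff_of_injective R (MulAut.conj g).injective).1 e), ?_⟩,
      (card_cjS g R).trans h5⟩
    rintro ⟨A, hA⟩
    have h6 := hA.conj g⁻¹
    rw [cjS_cjS, inv_mul_cancel] at h6
    rw [show cjS (1 : H) R = R by ext y; simp] at h6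
    exact h4 ⟨_, h6⟩
  obtain ⟨S, hS⟩ := hR₀.1.pgroup.exists_le_sylow
  obtain ⟨g, hg⟩ := MulAction.exists_smul_eq H T S
  set R₁ := cjS g⁻¹ R₀ with hR₁def
  have hΦR : Φ R₁ := hΦconj _ _ ⟨hR₀, rfl⟩
  have hRM : R₁ ≤ M := by
    refine le_trans ?_ h.sylow_le
    intro y hy
    rw [hR₁def, mem_cjS, inv_inv] at hy
    have h1 : g * y * g⁻¹ ∈ (S : Subgroup H) := hS hy
    rw [← hg] at h1
    have h2 : g * y * g⁻¹ ∈ cjS g (T : Subgroup H) := h1
    rw [mem_cjS] at h2
    rwa [show g⁻¹ * (g * y * g⁻¹) * g = y by group] at h2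
  have honly : OnlyIn R₁ M := by
    refine h.descend hO (Φ := Φ) hΦconj (fun R hR => hR.1.1.pgroup) (fun R hR => hR.1.2.2.1) ?_
      hΦR hRM
    intro X P hX hXM hPX hPM hPp hdiv hsub R hR hRP
    have hL : Loc p M X P := ⟨hX, hXM, hPX, hPM, hPp, hdiv, hsub⟩
    obtain ⟨⟨hRe, hRq, -, hRno⟩, hRcard⟩ := hR
    by_contra hRQ
    obtain ⟨T', M', h'⟩ := hL.pmin h
    have hRX : R ≤ X := hRP.trans hPX
    obtain ⟨hE, hi, hfE⟩ := hL.ex_section h hns hRe hRP
    have hine : img p X R ≠ ⊥ := fun e => hRQ fun r hr => by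
      have := mk_mem_img (p := p) (x := (⟨r, hRX hr⟩ : X)) hr
      rw [e, Subgroup.mem_bot] at this
      exact mem_coreH.2 this
    have hiq : Quad (fixQ p W X) (img p X R) := by
      intro a ha w
      obtain ⟨x, hx, rfl⟩ := mem_img.1 ha
      exact (mem_fix_img hRX).2 (hRq _ hx w)
    obtain ⟨A', hA'⟩ := ih _ hL.card_lt h' (Cores.pCore_quotient_pCore (G := X) p)
      (fun w => Subtype.ext ((AddSubgroupClass.coe_nsmul w p).trans (hpW _))) hi hiq hine rfl
    set Y := Subgroup.closure {z | ∃ x ∈ X, ∃ r ∈ R, x * r * x⁻¹ = z} with hY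
    have hYN : Y ≤ Subgroup.normalClosure (R : Set H) := (Subgroup.closure_le _).2 (by
      rintro _ ⟨x, -, r, hr, rfl⟩
      exact Subgroup.normalClosure_normal.conj_mem r (Subgroup.subset_normalClosure hr) x)
    have hQn := le_normalizer_coreH (p := p) X
    have hQp : IsPGroup p (coreH p X) := hL.pgroup.to_le hL.coreH_le
    by_cases hE0 : R ⊓ coreH p X = ⊥
    · obtain ⟨hAe, hAi, hAf⟩ := hL.ex_pre h hns hRe hRP hE0 hA'.atom.toEx hA'.le
      set A := pre p X R A' with hA
      have hAR : A ≤ R := inf_le_left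
      have hA0 : A ⊓ coreH p X = ⊥ := le_bot_iff.1 (hE0 ▸ inf_le_inf_right _ hAR)
      have hAX : A ≤ X := hAR.trans hRX
      have hAt : Atom p W A := by
        refine ⟨hAe, fun e => hA'.atom.ne ?_, fun B hB hBe => ?_⟩
        · rw [← hAi, e]; simp [img]
        · have hB0 : B ⊓ coreH p X = ⊥ := le_bot_iff.1 (hA0 ▸ inf_le_inf_right _ hB)
          have hcB := card_img (p := p) (hB.trans hAX)
          have hcA := card_img (p := p) hAX
          rw [hB0, Subgroup.card_bot, one_mul] at hcB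
          rw [hA0, Subgroup.card_bot, one_mul] at hcA
          rcases hA'.atom.min (img p X B) (hAi ▸ Subgroup.map_mono fun z hz => hB hz)
              (hL.ex_section h hns hBe ((hB.trans hAR).trans hRP)).2.1 with e | e
          · left
            rw [e, Subgroup.card_bot] at hcB
            exact Subgroup.card_eq_one.1 hcB.symm
          · right
            refine Subgroup.eq_of_le_of_card_ge hB ?_
            rw [← hcA, ← hcB, e, hAi]
      refine hRno ⟨A, hAt, hAR, ?_⟩
      rw [hAf]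
      refine sup_le (fun c hc => AddSubgroup.subset_closure
        ⟨1, Subgroup.one_mem _, by ext y; simp, c, hc, (one_smul H c).symm⟩) ?_
      rw [AddSubgroup.map_le_iff_le_comap]
      refine hA'.spanned.trans ((AddSubgroup.closure_le _).2 ?_)
      rintro _ ⟨x', hx', hx'A, c, hc, rfl⟩
      have hx'Y : x' ∈ img p X Y := by
        refine (Subgroup.closure_le _).2 (fun z hz => ?_) hx'
        obtain ⟨r', hr', hcj⟩ := Group.mem_conjugatesOfSet_iff.1 hz
        obtain ⟨c', rfl⟩ := isConj_iff.1 hcj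
        obtain ⟨x, rfl⟩ := QuotientGroup.mk_surjective c'
        obtain ⟨r, hr, rfl⟩ := mem_img.1 hr'
        exact mk_mem_img (x := x * r * x⁻¹)
          (Subgroup.subset_closure ⟨(x : H), x.2, (r : H), hr, rfl⟩)
      obtain ⟨y, hy, rfl⟩ := mem_img.1 hx'Y
      have himg : img p X (cjS (y : H) A) = img p X A := by
        rw [img_cjS hAX, hAi, hx'A]
      have hle : cjS (y : H) A ≤ A ⊔ coreH p X := by
        intro z hz
        have hzX : z ∈ X := by
          obtain ⟨a, ha, rfl⟩ := hz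
          exact X.mul_mem (X.mul_mem y.2 (hAX ha)) (X.inv_mem y.2)
        obtain ⟨a, ha, hae⟩ := mem_img.1 (himg ▸ mk_mem_img (x := (⟨z, hzX⟩ : X)) hz)
        have h1 : (a : H)⁻¹ * z ∈ coreH p X := ⟨a⁻¹ * ⟨z, hzX⟩, QuotientGroup.eq.1 hae, rfl⟩
        have h2 := (A ⊔ coreH p X).mul_mem (Subgroup.mem_sup_left ha) (Subgroup.mem_sup_right h1)
        rwa [mul_inv_cancel_left] at h2
      have hleP : A ⊔ coreH p X ≤ P := sup_le (hAR.trans hRP) hL.coreH_le
      have hc1 := comm_atoms hns hpW hsep (hL.pgroup.to_le hleP) hAt le_sup_left (hAt.conj (y : H))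
        hle
      have hAQ : ¬ A ≤ coreH p X := fun e => hAt.ne (by rw [← hA0, inf_eq_left.2 e])
      have hyA : A = cjS (y : H) A := by
        refine hL.collision h hns hAt (hAt.conj _) hc1 (hAR.trans hRP) (hle.trans hleP) hAQ
          (fun e => hAQ fun a ha => ?_) himg.le (hsep _ ⟨A, rfl⟩ (fam_single hAt))
          fun C hC _ hAC => hsep _ ⟨A, Set.mem_insert _ _⟩ (fam_pair hAt hC hAC)
        exact (Subgroup.mem_normalizer_iff.1 (hQn y.2) a).2 (e (conj_mem_cjS ha))
      refine AddSubgroup.subset_closure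
        ⟨(y : H), hYN hy, hyA.symm, (c : W), (mem_fix_img hRX).1 hc, ?_⟩
      rfl
    · have hlt : Nat.card ↥(R ⊓ coreH p X) < Nat.card R₀ := by
        rw [← hRcard]
        refine lt_of_le_of_ne (Subgroup.card_le_of_le inf_le_left) fun e => hRQ ?_
        exact inf_eq_left.1 (Subgroup.eq_of_le_of_card_ge inf_le_left e.ge)
      obtain ⟨A, hA⟩ : ∃ A, Good p W (R ⊓ coreH p X) A := by
        by_contra hno
        exact absurd (hmin₀ _ ⟨hE, hRq.mono inf_le_left, hE0, hno⟩) (not_le.2 hlt)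
      have hYA : Y ≤ Subgroup.normalizer (A : Set H) := (Subgroup.closure_le _).2 (by
        rintro _ ⟨x, hx, r, hr, rfl⟩
        have hcX : cjS x R ≤ X := by
          rintro _ ⟨s, hs, rfl⟩
          exact X.mul_mem (X.mul_mem hx (hRX hs)) (X.inv_mem hx)
        exact le_normalizer_atom hns hpW hsep
          ((hRe.conj x).pgroup.to_sup_of_normal_right' hQp (hcX.trans hQn)) (hRe.conj x)
          (hRq.conj x) le_sup_left hA.atom ((hA.le.trans inf_le_right).trans le_sup_right)
          (conj_mem_cjS hr))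
      refine hRno ⟨A, hA.atom, hA.le.trans inf_le_left, hA.spanned.trans ?_⟩
      refine (AddSubgroup.closure_le _).2 ?_
      rintro _ ⟨x, hx, hxA, c, hc, rfl⟩
      have hxR : x ∈ Subgroup.normalClosure (R : Set H) :=
        Subgroup.normalClosure_mono (fun z hz => hz.1) hx
      rw [hfE] at hc
      have hle : fixW W R ⊔ fixQ p W X ≤
          (span W R A).comap (DistribSMul.toAddMonoidHom W x) := by
        refine sup_le (fun d hd => AddSubgroup.subset_closure ⟨x, hxR, hxA, d, hd, rfl⟩) ?_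
        refine (hL.fixQ_le h hpW hRP hA').trans ((AddSubgroup.closure_le _).2 ?_)
        rintro _ ⟨y, hy, d, hd, rfl⟩
        refine AddSubgroup.subset_closure ⟨x * y, Subgroup.mul_mem _ hxR (hYN hy), ?_, d, hd, ?_⟩
        · rw [← cjS_cjS, show cjS y A = A from
            Subgroup.mem_normalizer_iff_map_conj_eq.1 (hYA hy), hxA]
        · exact (mul_smul x y d).symm
      exact hle hc
  obtain ⟨⟨hR₁e, hR₁q, hR₁ne, hR₁no⟩, -⟩ := hΦR
  obtain ⟨x, -, hx⟩ := SetLike.exists_of_lt (lt_top_iff_ne_top.2 h.ne_top)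
  obtain ⟨-, hreg⟩ := regular_of_only h hO hR₁e hR₁ne hRM honly hR₁q hx
  obtain ⟨A, hAR, hA⟩ := hR₁e.exists_atom hR₁ne
  obtain ⟨⟨a, ha⟩, ha1⟩ := A.ne_bot_iff_exists_ne_one.1 hA.ne
  have hfix : fixW W A = fixW W R₁ := le_antisymm (fun w hw =>
    (hreg a (hAR ha) w (by rw [hw a ha, sub_self]; exact zero_mem _)).resolve_left
      fun e => ha1 (Subtype.ext e)) (fixW_anti hAR)
  have hAR' : A = R₁ := by
    refine Subgroup.eq_of_le_of_card_ge hAR ?_
    refine Nat.le_of_mul_le_mul_right ?_ (Nat.card_pos (α := fixW W R₁))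
    rw [hR₁e.eq hns, ← hA.toEx.eq hns, hfix]
  refine hR₁no ⟨A, hA, hAR, ?_⟩
  rw [hAR']
  exact fun c hc => AddSubgroup.subset_closure
    ⟨1, Subgroup.one_mem _, by ext y; simp, c, hc, (one_smul H c).symm⟩

end Cfsg.Agent.Lib.NoStrictAtoms69
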